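import Mathlib

/-!
Nilpotent operators on elementary abelian groups and the isotropy of deep Jordan layers.
-/

set_option autoImplicit false

namespace CfsgLib.LocalEvenB.ThompsonFive

open Finset

variable {p : ℕ} [hp : Fact p.Prime]

omit hp in
theorem natCast_end_eq_zero {V : Type*} [AddCommGroup V] (hV : ∀ v : V, p • v = 0) :
    (p : AddMonoid.End V) = 0 := by
  ext v
  simpa using hV v

/-- In characteristic `p`: `(g - 1) ^ (p ^ s - 1)` is the sum of `p ^ s` powers of `g`. -/
theorem sub_one_pow_pred_eq {R : Type*} [Ring R] (hR : (p : R) = 0) (g : R) (s : ℕ) :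
    (g - 1) ^ (p ^ s - 1) = ∑ i ∈ range (p ^ s), g ^ i := by
  have hq : ((Polynomial.X - 1) ^ (p ^ s - 1) - ∑ i ∈ range (p ^ s), Polynomial.X ^ i :
      Polynomial ℤ).map (Int.castRingHom (ZMod p)) = 0 := by
    simp only [Polynomial.map_sub, Polynomial.map_pow, Polynomial.map_sum, Polynomial.map_X,
      Polynomial.map_one]
    have hne : (Polynomial.X - 1 : Polynomial (ZMod p)) ≠ 0 := by
      simpa using Polynomial.X_sub_C_ne_zero (1 : ZMod p)
    rw [sub_eq_zero]
    refine mul_right_cancel₀ hne ?_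
    rw [← pow_succ, Nat.sub_add_cancel (Nat.one_le_pow _ _ hp.out.pos), geom_sum_mul,
      sub_pow_char_pow, one_pow]
  obtain ⟨q, hq'⟩ : Polynomial.C (p : ℤ) ∣
      ((Polynomial.X - 1) ^ (p ^ s - 1) - ∑ i ∈ range (p ^ s), Polynomial.X ^ i : Polynomial ℤ) := by
    rw [Polynomial.C_dvd_iff_dvd_coeff]
    intro n
    rw [← ZMod.intCast_zmod_eq_zero_iff_dvd]
    simpa only [Polynomial.coeff_map, Polynomial.coeff_zero, eq_intCast] using
      congrArg (fun P => Polynomial.coeff P n) hq
  have h := congrArg (Polynomial.aeval g) hq'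
  simp only [map_sub, map_pow, map_sum, map_mul, Polynomial.aeval_X, map_one, map_natCast, hR, zero_mul] at h
  exact sub_eq_zero.mp h

/-- A `g` with `g ^ (p ^ s) = 1` is unipotent of class at most `p ^ s` in characteristic `p`. -/
theorem sub_one_pow_eq_zero {R : Type*} [Ring R] (hR : (p : R) = 0) {g : R} {s : ℕ}
    (hg : g ^ p ^ s = 1) : (g - 1) ^ p ^ s = 0 := by
  conv_lhs => rw [← Nat.sub_add_cancel (Nat.one_le_pow s p hp.out.pos)]
  rw [pow_succ, sub_one_pow_pred_eq hR, geom_sum_mul, hg, sub_self]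

/-- The subgroup spanned by the iterates of `y`. -/
def iterSpan {V : Type*} [AddCommGroup V] (δ : AddMonoid.End V) (y : V) : AddSubgroup V :=
  AddSubgroup.closure (Set.range fun i : ℕ => (δ ^ i) y)

theorem iter_mem_iterSpan {V : Type*} [AddCommGroup V] (δ : AddMonoid.End V) (y : V) (i : ℕ) :
    (δ ^ i) y ∈ iterSpan δ y :=
  AddSubgroup.subset_closure ⟨i, rfl⟩

/-- A long chain of iterates spans a large subgroup. -/
theorem pow_le_card_iterSpan {V : Type*} [AddCommGroup V] [Finite V] (hV : ∀ v : V, p • v = 0)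
    (δ : AddMonoid.End V) {N : ℕ} (hδ : δ ^ N = 0) :
    ∀ (k : ℕ) (y : V), (δ ^ k) y ≠ 0 → p ^ (k + 1) ≤ Nat.card (iterSpan δ y) := by
  have hpg : IsPGroup p (Multiplicative V) := fun x => ⟨1, by
    rw [pow_one]
    exact congrArg Multiplicative.ofAdd (hV (Multiplicative.toAdd x))⟩
  have hcard : ∀ H : AddSubgroup V, ∃ n, Nat.card H = p ^ n := fun H => by
    obtain ⟨n, hn⟩ := IsPGroup.iff_card.mp (hpg.to_subgroup (AddSubgroup.toSubgroup H))
    exact ⟨n, hn ▸ Nat.card_congr (Equiv.refl _)⟩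
  have hlt : ∀ H K : AddSubgroup V, H < K → p * Nat.card H ≤ Nat.card K := by
    intro H K h
    obtain ⟨a, ha⟩ := hcard H
    obtain ⟨b, hb⟩ := hcard K
    have : Nat.card H < Nat.card K :=
      Set.Finite.card_lt_card (Set.toFinite _) (SetLike.coe_ssubset_coe.2 h)
    rw [ha, hb] at this ⊢
    rw [← pow_succ']
    exact Nat.pow_le_pow_right hp.out.pos ((Nat.pow_lt_pow_iff_right hp.out.one_lt).mp this)
  intro k
  induction k with
  | zero =>
    intro y hy
    rw [pow_zero] at hy
    obtain ⟨b, hb⟩ := hcard (iterSpan δ y)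
    rw [hb]
    refine Nat.pow_le_pow_right hp.out.pos (Nat.one_le_iff_ne_zero.mpr fun h0 => hy ?_)
    rw [h0, pow_zero] at hb
    have := iter_mem_iterSpan δ y 0
    rw [AddSubgroup.eq_bot_of_card_eq _ hb, AddSubgroup.mem_bot, pow_zero] at this
    exact this
  | succ k ih =>
    intro y hy
    have h1 := ih (δ y) (by rwa [pow_succ] at hy)
    have hsub : iterSpan δ (δ y) = (iterSpan δ y).map δ := by
      unfold iterSpan
      erw [AddMonoidHom.map_closure, ← Set.range_comp]
      congr 1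
      ext z
      simp only [Set.mem_range, Function.comp_apply]
      exact exists_congr fun i => by
        rw [show (δ ^ i) (δ y) = δ ((δ ^ i) y) from
          congrArg (fun f : AddMonoid.End V => f y) ((pow_succ δ i).symm.trans (pow_succ' δ i))]
        rfl
    have hle : iterSpan δ (δ y) ≤ iterSpan δ y := by
      refine (AddSubgroup.closure_le _).mpr ?_
      rintro _ ⟨i, rfl⟩
      show (δ ^ (i : ℕ) * δ) y ∈ iterSpan δ y
      rw [← pow_succ]
      exact iter_mem_iterSpan _ _ _
    have hne : iterSpan δ (δ y) ≠ iterSpan δ y := by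
      intro he
      rw [hsub] at he
      have hall : ∀ n : ℕ, ∀ z ∈ iterSpan δ y, ∃ w, z = (δ ^ n) w := by
        intro n
        induction n with
        | zero => exact fun z _ => ⟨z, rfl⟩
        | succ n ihn =>
          intro z hz
          rw [← he] at hz
          obtain ⟨w, hw, rfl⟩ := hz
          obtain ⟨u, rfl⟩ := ihn w hw
          exact ⟨u, by rw [pow_succ']; rfl⟩
      obtain ⟨w, hw⟩ := hall N ((δ ^ (k + 1)) y) (iter_mem_iterSpan _ _ _)
      rw [hδ] at hw
      exact hy hw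
    calc p ^ (k + 1 + 1) = p * p ^ (k + 1) := pow_succ' _ _
      _ ≤ p * Nat.card (iterSpan δ (δ y)) := Nat.mul_le_mul_left _ h1
      _ ≤ _ := hlt _ _ (lt_of_le_of_ne hle hne)

/-- An operator whose image is small has small nilpotency class. -/
theorem pow_eq_zero_of_card_range {V : Type*} [AddCommGroup V] [Finite V]
    (hV : ∀ v : V, p • v = 0) (δ : AddMonoid.End V) {N : ℕ} (hδ : δ ^ N = 0) {s : ℕ}
    (hs : Nat.card (AddMonoidHom.range δ) ≤ p ^ s) : δ ^ (s + 1) = 0 := by
  refine AddMonoidHom.ext fun w => ?_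
  by_contra h
  have h2 := pow_le_card_iterSpan hV δ hδ s (δ w) (by rwa [pow_succ] at h)
  have h3 : iterSpan δ (δ w) ≤ AddMonoidHom.range δ := by
    refine (AddSubgroup.closure_le _).mpr ?_
    rintro _ ⟨i, rfl⟩
    exact ⟨(δ ^ i) w, congrArg (fun f : AddMonoid.End V => f w)
      ((pow_succ' δ i).symm.trans (pow_succ δ i))⟩
  have h4 := h2.trans ((AddSubgroup.card_le_of_le h3).trans hs)
  exact absurd ((Nat.pow_le_pow_iff_right hp.out.one_lt).mp h4) (by omega)

section Form

variable {V W : Type*} [AddCommGroup V] [AddCommGroup W] (b : V →+ V →+ W)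
  (g g' : AddMonoid.End V) (γ : AddMonoid.End W)

/-- Deep layers are orthogonal. -/
theorem deep_orthogonal (hg : g * g' = 1) (hg' : g' * g = 1)
    (hb : ∀ u v, b (g u) (g v) = γ (b u v)) {N c : ℕ} (hN : (g - 1) ^ N = 0)
    (hc : (γ - 1) ^ c = 0) : ∀ (i j n : ℕ) (x y : V), N - 1 + c ≤ n + i + j →
      ((γ - 1) ^ n) (b (((g - 1) ^ i) x) (((g - 1) ^ j) y)) = 0 := by
  have hcz : ∀ n, c ≤ n → (γ - 1) ^ n = 0 := fun n h => by
    rw [← Nat.add_sub_cancel' h, pow_add, hc, zero_mul]
  have hNz : ∀ n, N ≤ n → (g - 1) ^ n = 0 := fun n h => by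
    rw [← Nat.add_sub_cancel' h, pow_add, hN, zero_mul]
  intro i
  induction i with
  | zero =>
    intro j n x y h
    rcases le_or_gt N j with hj | hj
    · rw [hNz j hj]; simp
    · rw [hcz n (by omega)]; rfl
  | succ i ih =>
    intro j n x y h
    have hcom : Commute g' (g - 1) :=
      (show Commute g' g from hg'.trans hg.symm).sub_right (Commute.one_right g')
    set u := ((g - 1) ^ i) x with hu
    set v := ((g - 1) ^ j) y with hv
    have h1 : ((g - 1) ^ (i + 1)) x = g u - u := by rw [pow_succ']; rfl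
    have h2 : g (g' v) = v := congrArg (fun f : AddMonoid.End V => f v) hg
    have h3 : g' v = ((g - 1) ^ j) (g' y) :=
      congrArg (fun f : AddMonoid.End V => f y) (hcom.pow_right j).eq
    have h4 : v - g' v = ((g - 1) ^ (j + 1)) (g' y) := by
      rw [pow_succ']
      show _ = g (((g - 1) ^ j) (g' y)) - ((g - 1) ^ j) (g' y)
      rw [← h3, h2]
    have key : b (g u - u) v = (γ - 1) (b u (g' v)) - b u (v - g' v) := by
      have e : b (g u) v = γ (b u (g' v)) := by rw [← hb, h2]
      rw [show (γ - 1) (b u (g' v)) = γ (b u (g' v)) - b u (g' v) from rfl, map_sub,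
        AddMonoidHom.sub_apply, map_sub, e]
      abel
    rw [h1, key, map_sub]
    have e1 := ih j (n + 1) x (g' y) (by omega)
    rw [← h3, ← hu, pow_succ] at e1
    have e2 := ih (j + 1) n x (g' y) (by omega)
    rw [← h4, ← hu] at e2
    rw [show ((γ - 1) ^ n) ((γ - 1) (b u (g' v))) = 0 from e1, e2, sub_zero]

/-- The one extra orthogonality needed for `p = 5`. -/
theorem five_orthogonal (hg : g * g' = 1) (hg' : g' * g = 1)
    (hb : ∀ u v, b (g u) (g v) = γ (b u v)) (halt : ∀ u, b u u = 0)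
    (h5 : ∑ i ∈ range 5, g ^ i = (g - 1) ^ 4) (hN : (g - 1) ^ 5 = 0) (hc : (γ - 1) ^ 2 = 0)
    (x : V) :
    b (((g - 1) ^ 2 : AddMonoid.End V) x) (((g - 1) ^ 3 : AddMonoid.End V) x) = 0 := by
  set δ := g - 1 with hδ
  set ε := γ - 1 with hε
  have hh : ∀ (f₁ f₂ : AddMonoid.End V) (z : V), (f₁ * f₂) z = f₁ (f₂ z) := fun _ _ _ => rfl
  have hskew : ∀ u v, b u v = - b v u := by
    intro u v
    have := halt (u + v)
    simp only [map_add, AddMonoidHom.add_apply, halt, add_zero, zero_add] at this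
    exact eq_neg_of_add_eq_zero_right this
  have he2 : ∀ w, ε (ε w) = 0 := fun w => by
    rw [show ε (ε w) = (ε ^ 2) w by rw [pow_two]; rfl, hc]; rfl
  have hgg' : ∀ z, g (g' z) = z := fun z => congrArg (fun f : AddMonoid.End V => f z) hg
  have hg'g : ∀ z, g' (g z) = z := fun z => congrArg (fun f : AddMonoid.End V => f z) hg'
  have step : ∀ u v, b (δ u) v = ε (b u (g' v)) - b u (v - g' v) := by
    intro u v
    have e : b (g u) v = γ (b u (g' v)) := by rw [← hb, hgg']
    rw [show δ u = g u - u from rfl,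
      show ε (b u (g' v)) = γ (b u (g' v)) - b u (g' v) from rfl, map_sub, AddMonoidHom.sub_apply,
      map_sub, e]
    abel
  have hfix : g ((δ ^ 4) x) = (δ ^ 4) x := by
    have : δ ((δ ^ 4) x) = 0 := by
      rw [← hh, ← pow_succ', hN]; rfl
    exact sub_eq_zero.mp this
  have hfix' : g' ((δ ^ 4) x) = (δ ^ 4) x := by
    conv_lhs => rw [← hfix]
    exact hg'g _
  have hg3 : g' ((δ ^ 3) x) = (δ ^ 3) x - (δ ^ 4) x := by
    have : g ((δ ^ 3) x - (δ ^ 4) x) = (δ ^ 3) x := by
      rw [map_sub, hfix]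
      have : (δ ^ 4) x = g ((δ ^ 3) x) - (δ ^ 3) x := by rw [pow_succ']; rfl
      rw [this]
      abel
    conv_lhs => rw [← this]
    exact hg'g _
  -- the norm of `x` is almost orthogonal to `x`
  have horb : ε (b x ((δ ^ 4) x)) = 0 := by
    have key : ∀ (i j : ℕ), g ^ j * g ^ i = 1 → ε (b x ((g ^ i) x) + b x ((g ^ j) x)) = 0 := by
      intro i j hij
      have hbi : ∀ (n : ℕ) u v, b ((g ^ n) u) ((g ^ n) v) = (γ ^ n) (b u v) := by
        intro n
        induction n with
        | zero => exact fun u v => rfl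
        | succ n ih =>
            intro u v
            simp only [pow_succ]
            show b ((g ^ n) (g u)) ((g ^ n) (g v)) = (γ ^ n) (γ (b u v))
            rw [ih, hb]
      have h1 : (g ^ j) ((g ^ i) x) = x := congrArg (fun f : AddMonoid.End V => f x) hij
      have h2 : (γ ^ j) (b x ((g ^ i) x)) = - b x ((g ^ j) x) := by
        rw [← hbi, h1, hskew]
      have h3 : b x ((g ^ i) x) + b x ((g ^ j) x) = - ((γ ^ j - 1) (b x ((g ^ i) x))) := by
        rw [show ((γ ^ j - 1) (b x ((g ^ i) x))) = (γ ^ j) (b x ((g ^ i) x)) - b x ((g ^ i) x)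
          from rfl, h2]
        abel
      obtain ⟨q, hq⟩ : ∃ q, γ ^ j - 1 = ε * q :=
        ⟨∑ k ∈ range j, γ ^ k, (mul_geom_sum γ j).symm⟩
      rw [h3, hq, map_neg, show (ε * q) (b x ((g ^ i) x)) = ε (q (b x ((g ^ i) x))) from rfl, he2,
        neg_zero]
    have h55 : g ^ 5 = 1 := by
      have := geom_sum_mul g 5
      rw [h5, ← hδ, ← pow_succ, hN] at this
      exact (sub_eq_zero.mp this.symm)
    have k1 := key 1 4 (by rw [← pow_add]; exact h55)
    have k2 := key 2 3 (by rw [← pow_add]; exact h55)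
    have hadd : ∀ (f₁ f₂ : AddMonoid.End V) (z : V), (f₁ + f₂) z = f₁ z + f₂ z :=
      fun _ _ _ => rfl
    rw [← h5]
    simp only [sum_range_succ, range_zero, sum_empty, zero_add, hadd, map_add, pow_zero]
    rw [show (1 : AddMonoid.End V) x = x from rfl, halt, map_zero, zero_add]
    simp only [map_add] at k1 k2
    linear_combination (norm := abel) k1 + k2
  have A1 : b (δ x) ((δ ^ 4) x) = ε (b x ((δ ^ 4) x)) := by
    rw [step, hfix', sub_self, map_zero, sub_zero]
  have A2 : ε (b (δ x) ((δ ^ 3) x)) = - ε (b x ((δ ^ 4) x)) := by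
    rw [step, map_sub ε, he2, hg3, sub_sub_cancel, zero_sub]
  rw [show (δ ^ 2) x = δ (δ x) by rw [pow_two]; rfl, step, hg3, sub_sub_cancel, map_sub (b (δ x)),
    map_sub ε, A2, A1, he2, horb]
  simp

end Form

end CfsgLib.LocalEvenB.ThompsonFive
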