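import Cfsg.Agent.Lib.LocalEvenB.ThompsonFive.Layer

/-!
The counting step behind Thompson's conjecture for `p ≥ 5`: an abelian subgroup of largest order
cannot induce a cyclic group of operators with a regular orbit on a layer of class two.
-/

set_option autoImplicit false
set_option maxHeartbeats 1000000

namespace CfsgLib.LocalEvenB.ThompsonFive

open Subgroup
open scoped commutatorElement

variable {G : Type*} [Group G]

/-- `|X ⊔ Y| · |X ⊓ Y| ≥ |X| · |Y|`. -/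
theorem card_mul_card_le_card_sup [Finite G] (X Y : Subgroup G) :
    Nat.card X * Nat.card Y ≤ Nat.card ↥(X ⊔ Y) * Nat.card ↥(X ⊓ Y) := by
  classical
  let f : ↥X × ↥Y → ↥(X ⊔ Y) := fun q =>
    ⟨(q.1 : G) * q.2, mul_mem (mem_sup_left q.1.2) (mem_sup_right q.2.2)⟩
  haveI : Nonempty (↥X × ↥Y) := ⟨(1, 1)⟩
  let σ := Function.invFun f
  have hσ : ∀ q, f (σ (f q)) = f q := fun q => Function.invFun_eq ⟨q, rfl⟩
  have hk : ∀ q : ↥X × ↥Y, ((σ (f q)).1 : G)⁻¹ * (q.1 : G) = (σ (f q)).2 * (q.2 : G)⁻¹ := fun q => by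
    have h : ((σ (f q)).1 : G) * (σ (f q)).2 = (q.1 : G) * q.2 := congrArg Subtype.val (hσ q)
    rw [eq_mul_inv_iff_mul_eq, mul_assoc, ← h, inv_mul_cancel_left]
  let φ : ↥X × ↥Y → ↥(X ⊔ Y) × ↥(X ⊓ Y) := fun q =>
    (f q, ⟨((σ (f q)).1 : G)⁻¹ * (q.1 : G),
      mem_inf.mpr ⟨mul_mem (inv_mem (σ (f q)).1.2) q.1.2, by
        rw [hk]; exact mul_mem (σ (f q)).2.2 (inv_mem q.2.2)⟩⟩)
  have hφ : Function.Injective φ := fun q r h => by
    have h1 : f q = f r := congrArg Prod.fst h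
    have h2 : ((σ (f q)).1 : G)⁻¹ * (q.1 : G) = ((σ (f r)).1 : G)⁻¹ * (r.1 : G) :=
      congrArg (fun z => ((z.2 : ↥(X ⊓ Y)) : G)) h
    rw [h1] at h2
    have h3 : (q.1 : G) = r.1 := mul_left_cancel h2
    have h4 : (q.1 : G) * q.2 = (r.1 : G) * r.2 := congrArg Subtype.val h1
    rw [h3] at h4
    exact Prod.ext (Subtype.ext h3) (Subtype.ext (mul_left_cancel h4))
  have := Nat.card_le_card_of_injective φ hφ
  rwa [Nat.card_prod, Nat.card_prod] at this

/-- A join of commuting abelian subgroups is abelian. -/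
theorem isMulCommutative_sup' {X Y : Subgroup G} (hX : ∀ a ∈ X, ∀ b ∈ X, a * b = b * a)
    (hY : ∀ a ∈ Y, ∀ b ∈ Y, a * b = b * a) (hXY : ∀ a ∈ X, ∀ b ∈ Y, a * b = b * a) :
    IsMulCommutative ↥(X ⊔ Y) := by
  refine le_centralizer_iff_isMulCommutative.1 (sup_le ?_ ?_) <;>
    · rw [le_centralizer_iff]
      refine sup_le ?_ ?_ <;> intro u hu <;> rw [mem_centralizer_iff] <;> intro v hv
      all_goals first
        | exact hX v hv u hu
        | exact hY v hv u hu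
        | exact hXY v hv u hu
        | exact (hXY u hu v hv).symm

/-- Thompson's replacement: if `[x, A]` is abelian, then `A` covers it modulo `A`. -/
theorem exists_commutator_mem [Finite G] {A U : Subgroup G}
    (hA : ∀ a ∈ A, ∀ b ∈ A, a * b = b * a)
    (hmax : ∀ X : Subgroup G, X ≤ U → IsMulCommutative X → Nat.card X ≤ Nat.card A)
    (hAU : A ≤ U) (x : G)
    (hM : ∀ a ∈ closure ((fun α => ⁅x, α⁆) '' (A : Set G)),
      ∀ b ∈ closure ((fun α => ⁅x, α⁆) '' (A : Set G)), a * b = b * a)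
    (hMU : closure ((fun α => ⁅x, α⁆) '' (A : Set G)) ≤ U) {m : G}
    (hm : m ∈ closure ((fun α => ⁅x, α⁆) '' (A : Set G))) :
    ∃ α ∈ A, ⁅x, α⁆⁻¹ * m ∈ A := by
  classical
  set M := closure ((fun α => ⁅x, α⁆) '' (A : Set G)) with hMdef
  have hxM : ∀ α ∈ A, ⁅x, α⁆ ∈ M := fun α hα => subset_closure ⟨α, hα, rfl⟩
  set C := A ⊓ centralizer (M : Set G) with hC
  have hMC : M ⊓ C = M ⊓ A := le_antisymm (inf_le_inf_left _ inf_le_left) (le_inf inf_le_left
    (le_inf inf_le_right fun z hz => mem_centralizer_iff.mpr fun w hw => hM w hw z hz.1))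
  have hab : IsMulCommutative ↥(M ⊔ C) :=
    isMulCommutative_sup' hM (fun a ha b hb => hA a ha.1 b hb.1)
      fun a ha b hb => mem_centralizer_iff.mp hb.2 a ha
  have h1 := card_mul_card_le_card_sup M C
  have h2 := hmax (M ⊔ C) (sup_le hMU (inf_le_left.trans hAU)) hab
  rw [hMC] at h1
  let φ : ↥A ⧸ C.subgroupOf A → ↥M ⧸ (M ⊓ A).subgroupOf M := fun q =>
    QuotientGroup.mk ⟨⁅x, (q.out : G)⁆, hxM _ q.out.2⟩
  have hφ : Function.Injective φ := by
    intro q r h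
    have h3 := QuotientGroup.eq.mp h
    rw [mem_subgroupOf] at h3
    have h4 : ⁅x, (q.out : G)⁆⁻¹ * ⁅x, (r.out : G)⁆ ∈ A := h3.2
    set α := (q.out : G)
    set β := (r.out : G)
    have hα : α ∈ A := q.out.2
    have hβ : β ∈ A := r.out.2
    set γ := α⁻¹ * β with hγdef
    have hγ : γ ∈ A := mul_mem (inv_mem hα) hβ
    have hf : x * γ * x⁻¹ ∈ A := by
      have e : x * γ * x⁻¹ = α⁻¹ * (⁅x, α⁆⁻¹ * ⁅x, β⁆) * β := by
        simp only [hγdef, commutatorElement_def]; group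
      rw [e]
      exact mul_mem (mul_mem (inv_mem hα) h4) hβ
    have hδC : γ ∈ C := by
      refine ⟨hγ, mem_centralizer_iff.mpr ?_⟩
      suffices hle : M ≤ centralizer ({γ} : Set G) from fun w hw =>
        (mem_centralizer_singleton_iff.mp (hle hw)).symm ▸ rfl
      rw [hMdef, closure_le]
      rintro _ ⟨δ, hδ, rfl⟩
      rw [SetLike.mem_coe, mem_centralizer_singleton_iff]
      show ⁅x, δ⁆ * γ = γ * ⁅x, δ⁆
      -- `f = x γ x⁻¹` commutes with `⁅x, δ⁆`
      have hc1 : γ * δ = δ * γ := hA γ hγ δ hδ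
      have hc2 : (x * γ * x⁻¹) * δ = δ * (x * γ * x⁻¹) := hA _ hf δ hδ
      have hc3 : ⁅x, γ⁆ * ⁅x, δ⁆ = ⁅x, δ⁆ * ⁅x, γ⁆ := hM _ (hxM γ hγ) _ (hxM δ hδ)
      have hc4 : ⁅x, δ⁆ * (δ * (x * γ * x⁻¹) * δ⁻¹) = (x * γ * x⁻¹) * ⁅x, δ⁆ := by
        have : ⁅x, δ⁆ * (δ * (x * γ * x⁻¹) * δ⁻¹) = x * (δ * γ) * x⁻¹ * δ⁻¹ := by
          simp only [commutatorElement_def]; group
        rw [this, ← hc1]
        simp only [commutatorElement_def]; group
      rw [← hc2, mul_inv_cancel_right] at hc4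
      rw [show ⁅x, γ⁆ = (x * γ * x⁻¹) * γ⁻¹ by simp only [commutatorElement_def]] at hc3
      have hc5 : γ⁻¹ * ⁅x, δ⁆ = ⁅x, δ⁆ * γ⁻¹ := by
        rw [mul_assoc, ← mul_assoc ⁅x, δ⁆, hc4, mul_assoc (x * γ * x⁻¹)] at hc3
        exact mul_left_cancel hc3
      calc ⁅x, δ⁆ * γ = γ * (γ⁻¹ * ⁅x, δ⁆) * γ := by group
        _ = γ * ⁅x, δ⁆ := by rw [hc5]; group
    rw [← q.out_eq', ← r.out_eq']
    exact QuotientGroup.eq.mpr (mem_subgroupOf.mpr hδC)
  have hbij : Function.Bijective φ := by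
    refine hφ.bijective_of_nat_card_le ?_
    have e1 := (C.subgroupOf A).index_mul_card
    have e2 := ((M ⊓ A).subgroupOf M).index_mul_card
    rw [Nat.card_congr (subgroupOfEquivOfLe (inf_le_left : C ≤ A)).toEquiv] at e1
    rw [Nat.card_congr (subgroupOfEquivOfLe (inf_le_left : M ⊓ A ≤ M)).toEquiv] at e2
    rw [← Subgroup.index_eq_card, ← Subgroup.index_eq_card]
    refine Nat.le_of_mul_le_mul_right ?_
      (Nat.mul_pos (Nat.card_pos (α := ↥(M ⊓ A))) (Nat.card_pos (α := ↥C)))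
    rw [← mul_assoc, e2]
    calc Nat.card ↥M * Nat.card ↥C ≤ Nat.card ↥(M ⊔ C) * Nat.card ↥(M ⊓ A) := h1
      _ ≤ Nat.card ↥A * Nat.card ↥(M ⊓ A) := Nat.mul_le_mul_right _ h2
      _ = (C.subgroupOf A).index * (Nat.card ↥(M ⊓ A) * Nat.card ↥C) := by rw [← e1]; ring
  obtain ⟨q, hq⟩ := hbij.surjective (QuotientGroup.mk ⟨m, hm⟩)
  exact ⟨(q.out : G), q.out.2, (mem_subgroupOf.mp (QuotientGroup.eq.mp hq)).2⟩

variable {p : ℕ} [hp : Fact p.Prime]

/-- The counting step. -/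
theorem core_contradiction [Finite G] (L : Layer G p) (hp5 : 5 ≤ p) (Q A : Subgroup G)
    (hA : ∀ a ∈ A, ∀ b ∈ A, a * b = b * a) (hBQ : L.B ≤ Q) (hcQ : ⁅L.B, Q⁆ ≤ L.B₁)
    (hmax : ∀ X : Subgroup G, X ≤ A ⊔ Q → IsMulCommutative X → Nat.card X ≤ Nat.card A)
    (a : G) (haA : a ∈ A) (s : ℕ) (hs : 1 ≤ s)
    (hgen : ∀ α ∈ A, ∃ i < p ^ s, ∃ d ∈ A ⊓ Q, α = a ^ i * d) (hord : a ^ p ^ s ∈ Q)
    (x0 : L.V) (hx0 : ((L.act a - 1) ^ (p ^ s - 1) : AddMonoid.End L.V) x0 ≠ 0) : False := by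
  classical
  have hhV : ∀ (f₁ f₂ : AddMonoid.End L.V) (z : L.V), (f₁ * f₂) z = f₁ (f₂ z) := fun _ _ _ => rfl
  have hQ1 : ∀ q ∈ Q, L.act q = 1 := fun q hq =>
    L.act_eq_one fun b hb => hcQ (commutator_mem_commutator hb hq)
  have hQW : ∀ q ∈ Q, L.actW q = 1 := fun q hq => L.actW_eq_one (hQ1 q hq)
  set g := L.act a with hgdef
  set g' := L.act a⁻¹ with hg'def
  set γ := L.actW a with hγdef
  have hgg' : g * g' = 1 := by rw [hgdef, hg'def, ← map_mul, mul_inv_cancel, map_one]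
  have hg'g : g' * g = 1 := by rw [hgdef, hg'def, ← map_mul, inv_mul_cancel, map_one]
  have hpV := natCast_end_eq_zero (p := p) L.nsmul_V
  have hpW := natCast_end_eq_zero (p := p) L.nsmul_W
  have hgN : g ^ p ^ s = 1 := by rw [hgdef, ← map_pow, hQ1 _ hord]
  have hγN : γ ^ p ^ s = 1 := by rw [hγdef, ← map_pow, hQW _ hord]
  set δ : AddMonoid.End L.V := g - 1 with hδdef
  have hδN : δ ^ p ^ s = 0 := sub_one_pow_eq_zero hpV hgN
  have hεN : (γ - 1) ^ p ^ s = 0 := sub_one_pow_eq_zero hpW hγN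
  set N := p ^ s with hNdef
  -- the derived subgroup of `B` is nearly fixed by `A`
  have hcardA : Nat.card A ≤ N * Nat.card ↥(A ⊓ Q) := by
    have hsurj : Function.Surjective (fun q : Fin N × ↥(A ⊓ Q) =>
        (⟨a ^ (q.1 : ℕ) * q.2, mul_mem (pow_mem haA _) q.2.2.1⟩ : ↥A)) := by
      rintro ⟨α, hα⟩
      obtain ⟨i, hi, d, hd, rfl⟩ := hgen α hα
      exact ⟨(⟨i, hi⟩, ⟨d, hd⟩), rfl⟩
    have := Nat.card_le_card_of_surjective _ hsurj
    rwa [Nat.card_prod, Nat.card_fin] at this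
  have hc : (γ - 1) ^ (s + 1) = 0 := by
    refine pow_eq_zero_of_card_range L.nsmul_W _ hεN ?_
    set Bd := (commutator ↥L.B).map L.B.subtype with hBd
    have hcomm : ∀ z ∈ Bd, ∀ q ∈ Q, z * q = q * z := by
      rintro _ ⟨z, hz, rfl⟩ q hq
      have h := L.coe_actW q (Additive.ofMul ⟨z, hz⟩)
      rw [hQW q hq] at h
      exact ((eq_mul_inv_iff_mul_eq.mp h)).trans rfl
    have hBdQ : Bd ≤ Q := (map_subtype_le _).trans hBQ
    have hab : IsMulCommutative ↥(Bd ⊔ (A ⊓ Q)) := isMulCommutative_sup'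
      (fun z hz w hw => hcomm z hz w (hBdQ hw)) (fun z hz w hw => hA z hz.1 w hw.1)
      (fun z hz w hw => hcomm z hz w hw.2)
    have h1 := card_mul_card_le_card_sup Bd (A ⊓ Q)
    have h2 := hmax _ (sup_le (hBdQ.trans le_sup_right) (inf_le_left.trans le_sup_left)) hab
    have h3 : Nat.card Bd ≤ N * Nat.card ↥(Bd ⊓ (A ⊓ Q)) := by
      refine Nat.le_of_mul_le_mul_right ?_ (Nat.card_pos (α := ↥(A ⊓ Q)))
      calc _ ≤ _ := h1
        _ ≤ N * Nat.card ↥(A ⊓ Q) * Nat.card ↥(Bd ⊓ (A ⊓ Q)) :=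
          Nat.mul_le_mul_right _ (h2.trans hcardA)
        _ = _ := by ring
    have hcW : Nat.card L.W = Nat.card Bd := by
      rw [hBd, Subgroup.card_map_of_injective L.B.subtype_injective]
      exact Nat.card_congr Additive.toMul
    let E : L.W →+ L.W := (γ - 1 : AddMonoid.End L.W)
    have h4 : Nat.card ↥(Bd ⊓ (A ⊓ Q)) ≤ Nat.card E.ker := by
      have hmem : ∀ z : ↥(Bd ⊓ (A ⊓ Q)), ∃ w : E.ker,
          (((w.1.toMul : ↥(commutator ↥L.B)) : ↥L.B) : G) = z := by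
        rintro ⟨_, ⟨z, hz, rfl⟩, hzA, -⟩
        refine ⟨⟨Additive.ofMul ⟨z, hz⟩, ?_⟩, rfl⟩
        refine AddMonoidHom.mem_ker.mpr ?_
        show γ (Additive.ofMul ⟨z, hz⟩) - Additive.ofMul ⟨z, hz⟩ = 0
        refine sub_eq_zero.mpr (Additive.toMul.injective (Subtype.ext (Subtype.ext ?_)))
        show a * (z : G) * a⁻¹ = z
        have hzA' : (z : G) ∈ A := hzA
        rw [hA a haA _ hzA', mul_inv_cancel_right]
      choose w hw using hmem
      exact Nat.card_le_card_of_injective w fun z z' h =>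
        Subtype.ext ((hw z).symm.trans (h ▸ hw z'))
    have h5 : Nat.card E.range * Nat.card E.ker = Nat.card L.W := by
      rw [← AddSubgroup.index_ker E]; exact E.ker.index_mul_card
    refine Nat.le_of_mul_le_mul_right ?_ (Nat.card_pos (α := E.ker))
    show Nat.card E.range * Nat.card E.ker ≤ N * Nat.card E.ker
    calc Nat.card E.range * Nat.card E.ker = Nat.card Bd := h5.trans hcW
      _ ≤ N * Nat.card ↥(Bd ⊓ (A ⊓ Q)) := h3
      _ ≤ N * Nat.card E.ker := Nat.mul_le_mul_left _ h4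
  -- the deep layers
  have hN5 : 5 ≤ N := hp5.trans (by
    calc p = p ^ 1 := (pow_one p).symm
      _ ≤ N := Nat.pow_le_pow_right hp.out.pos hs)
  have hgrow : N = 5 ∧ s = 1 ∨ 3 * s + 4 ≤ N := by
    rcases Nat.lt_or_ge 1 s with h | h
    · right
      have key : ∀ k, 3 * (k + 2) + 4 ≤ 5 ^ (k + 2) := by
        intro k
        induction k with
        | zero => norm_num
        | succ k ih =>
          calc 3 * (k + 1 + 2) + 4 ≤ 5 * (3 * (k + 2) + 4) := by omega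
            _ ≤ 5 * 5 ^ (k + 2) := Nat.mul_le_mul_left 5 ih
            _ = 5 ^ (k + 1 + 2) := by ring
      obtain ⟨k, rfl⟩ : ∃ k, s = k + 2 := ⟨s - 2, by omega⟩
      exact (key k).trans (Nat.pow_le_pow_left hp5 _)
    · have hs1 : s = 1 := by omega
      subst hs1
      simp only [pow_one] at hNdef
      rcases Nat.lt_or_ge p 7 with h7 | h7
      · left
        refine ⟨?_, rfl⟩
        rcases (show p = 5 ∨ p = 6 by omega) with h | h
        · omega
        · exact absurd (h ▸ hp.out) (by norm_num)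
      · right; omega
  obtain ⟨n0, hn0⟩ : ∃ n0, n0 = N - 2 - s := ⟨_, rfl⟩
  have hn1 : 1 ≤ n0 := by omega
  set y0 := (δ ^ n0) x0 with hy0
  set U := iterSpan δ y0 with hUdef
  have hpair : ∀ i j, n0 ≤ i → n0 ≤ j → L.form ((δ ^ i) x0) ((δ ^ j) x0) = 0 := by
    have hgen' : ∀ i j, N - 1 + (s + 1) ≤ i + j → L.form ((δ ^ i) x0) ((δ ^ j) x0) = 0 := by
      intro i j h
      have := deep_orthogonal L.form g g' γ hgg' hg'g (L.form_act a) hδN hc i j 0 x0 x0 (by omega)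
      rwa [pow_zero] at this
    intro i j hi hj
    rcases hgrow with ⟨hN, hs1⟩ | h
    · rcases Nat.lt_or_ge (i + j) 6 with hlt | hge
      · subst hs1
        have hp' : p = 5 := by rw [hNdef, pow_one] at hN; exact hN
        have h23 : L.form ((δ ^ 2) x0) ((δ ^ 3) x0) = 0 := by
          refine five_orthogonal L.form g g' γ hgg' hg'g (L.form_act a) L.form_self ?_ ?_ hc x0
          · have := sub_one_pow_pred_eq hpV g 1
            subst hp'
            simpa using this.symm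
          · rw [hN] at hδN; exact hδN
        rcases (show i = 2 ∧ j = 2 ∨ i = 2 ∧ j = 3 ∨ i = 3 ∧ j = 2 by omega) with
          ⟨rfl, rfl⟩ | ⟨rfl, rfl⟩ | ⟨rfl, rfl⟩
        · exact L.form_self _
        · exact h23
        · have h := L.form_self ((δ ^ 2) x0 + (δ ^ 3) x0)
          simp only [map_add, AddMonoidHom.add_apply, L.form_self, h23, add_zero, zero_add] at h
          exact h
      · exact hgen' i j (by omega)
    · exact hgen' i j (by omega)
  have hδy : ∀ i, (δ ^ i) y0 = (δ ^ (i + n0)) x0 := fun i => by rw [hy0, ← hhV, ← pow_add]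
  have hUform : ∀ u ∈ U, ∀ v ∈ U, L.form u v = 0 := by
    intro u hu v hv
    induction hu using AddSubgroup.closure_induction with
    | mem u hu =>
      obtain ⟨i, rfl⟩ := hu
      induction hv using AddSubgroup.closure_induction with
      | mem v hv =>
        obtain ⟨j, rfl⟩ := hv
        show L.form ((δ ^ i) y0) ((δ ^ j) y0) = 0
        rw [hδy, hδy]
        exact hpair _ _ (by omega) (by omega)
      | zero => exact map_zero _
      | add v w _ _ h1 h2 => rw [map_add, h1, h2, add_zero]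
      | neg v _ h1 => rw [map_neg, h1, neg_zero]
    | zero => rw [map_zero]; rfl
    | add u w _ _ h1 h2 => rw [map_add, AddMonoidHom.add_apply, h1, h2, add_zero]
    | neg u _ h1 => rw [map_neg, AddMonoidHom.neg_apply, h1, neg_zero]
  obtain ⟨x, hx⟩ := L.cl_surjective ((δ ^ (n0 - 1)) x0)
  have hδx : g (L.cl x) - L.cl x = y0 := by
    rw [hx, hy0]
    show δ ((δ ^ (n0 - 1)) x0) = _
    rw [← hhV, ← pow_succ', Nat.sub_add_cancel hn1]
  -- the class of a commutator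
  set MS := closure ((fun α => ⁅(x : G), α⁆) '' (A : Set G)) with hMS
  have hmemB : ∀ α : G, ⁅(x : G), α⁆ ∈ L.B := fun α => by
    rw [show ⁅(x : G), α⁆ = (x : G) * (α * (x : G)⁻¹ * α⁻¹) by
      simp only [commutatorElement_def]; group]
    exact mul_mem x.2 (L.normB.conj_mem _ (inv_mem x.2) α)
  have hclA : ∀ α ∈ A, ∃ i < N, L.cl ⟨⁅(x : G), α⁆, hmemB α⟩ = L.cl x - (g ^ i) (L.cl x) := by
    intro α hα
    obtain ⟨i, hi, d, hd, hαeq⟩ := hgen α hα
    refine ⟨i, hi, ?_⟩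
    have hact : L.act α = g ^ i := by
      rw [hαeq, map_mul, map_pow, hQ1 d hd.2, mul_one]
    rw [← hact, L.act_cl, sub_eq_add_neg, ← L.cl_inv, ← L.cl_mul]
    refine congrArg L.cl (Subtype.ext ?_)
    show ⁅(x : G), α⁆ = (x : G) * (α * (x : G) * α⁻¹)⁻¹
    simp only [commutatorElement_def]; group
  have hgU : ∀ u ∈ U, g u ∈ U := by
    intro u hu
    have : δ u ∈ U := by
      induction hu using AddSubgroup.closure_induction with
      | mem u hu =>
        obtain ⟨i, rfl⟩ := hu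
        show δ ((δ ^ i) y0) ∈ U
        rw [← hhV, ← pow_succ']
        exact iter_mem_iterSpan _ _ _
      | zero => rw [map_zero]; exact zero_mem _
      | add u w _ _ h1 h2 => rw [map_add]; exact add_mem h1 h2
      | neg u _ h1 => rw [map_neg]; exact neg_mem h1
    rw [show g u = δ u + u by show g u = g u - u + u; abel]
    exact add_mem this hu
  have hdiff : ∀ i, (g ^ i) (L.cl x) - L.cl x ∈ U := by
    intro i
    induction i with
    | zero => rw [pow_zero]; show L.cl x - L.cl x ∈ U; rw [sub_self]; exact zero_mem _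
    | succ i ih =>
      rw [show (g ^ (i + 1)) (L.cl x) - L.cl x =
        g ((g ^ i) (L.cl x) - L.cl x) + (g (L.cl x) - L.cl x) by
          rw [pow_succ', hhV, map_sub]; abel, hδx]
      refine add_mem (hgU _ ih) ?_
      have := iter_mem_iterSpan δ y0 0
      rwa [pow_zero] at this
  have hMSB : MS ≤ L.B := (closure_le _).mpr (by rintro _ ⟨α, -, rfl⟩; exact hmemB α)
  have hMSU : ∀ (m : G) (hm : m ∈ MS), L.cl ⟨m, hMSB hm⟩ ∈ U := by
    intro m hm
    induction hm using Subgroup.closure_induction with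
    | mem m hm =>
      obtain ⟨α, hα, rfl⟩ := hm
      obtain ⟨i, -, hi⟩ := hclA α hα
      rw [hi, ← neg_sub]
      exact neg_mem (hdiff i)
    | one => exact zero_mem U
    | mul m n hm hn h1 h2 =>
      exact (L.cl_mul ⟨m, hMSB hm⟩ ⟨n, hMSB hn⟩) ▸ add_mem h1 h2
    | inv m hm h1 => exact (L.cl_inv ⟨m, hMSB hm⟩) ▸ neg_mem h1
  have hMcomm : ∀ m ∈ MS, ∀ n ∈ MS, m * n = n * m := fun m hm n hn =>
    L.commute_of_form_eq_zero (x := ⟨m, hMSB hm⟩) (y := ⟨n, hMSB hn⟩)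
      (hUform _ (hMSU m hm) _ (hMSU n hn))
  -- the image of `[x, A]`
  let PM : AddSubgroup L.V :=
    { carrier := {v | ∃ (m : G) (hm : m ∈ MS), L.cl ⟨m, hMSB hm⟩ = v}
      zero_mem' := ⟨1, one_mem _, rfl⟩
      add_mem' := by
        rintro _ _ ⟨m, hm, rfl⟩ ⟨n, hn, rfl⟩
        exact ⟨m * n, mul_mem hm hn, rfl⟩
      neg_mem' := by
        rintro _ ⟨m, hm, rfl⟩
        exact ⟨m⁻¹, inv_mem hm, rfl⟩ }
  have hPdiff : ∀ i : ℕ, L.cl x - (g ^ i) (L.cl x) ∈ PM := fun i => by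
    refine ⟨⁅(x : G), a ^ i⁆, subset_closure ⟨a ^ i, pow_mem haA i, rfl⟩, ?_⟩
    rw [hgdef, ← map_pow, L.act_cl, sub_eq_add_neg, ← L.cl_inv, ← L.cl_mul]
    refine congrArg L.cl (Subtype.ext ?_)
    show ⁅(x : G), a ^ i⁆ = (x : G) * (a ^ i * (x : G) * (a ^ i)⁻¹)⁻¹
    simp only [commutatorElement_def]; group
  have hPg : ∀ k i : ℕ, (δ ^ k) ((g ^ i) y0) ∈ PM := by
    intro k
    induction k with
    | zero =>
      intro i
      rw [pow_zero, show (1 : AddMonoid.End L.V) ((g ^ i) y0) = (g ^ i) y0 from rfl, ← hδx,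
        map_sub, ← hhV, ← pow_succ,
        show (g ^ (i + 1)) (L.cl x) - (g ^ i) (L.cl x) =
          (L.cl x - (g ^ i) (L.cl x)) - (L.cl x - (g ^ (i + 1)) (L.cl x)) by abel]
      exact sub_mem (hPdiff i) (hPdiff (i + 1))
    | succ k ih =>
      intro i
      rw [pow_succ, hhV, show δ ((g ^ i) y0) = (g ^ (i + 1)) y0 - (g ^ i) y0 by
        rw [pow_succ', hhV]; rfl, map_sub]
      exact sub_mem (ih (i + 1)) (ih i)
  have hUP : U ≤ PM := (AddSubgroup.closure_le _).mpr (by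
    rintro _ ⟨k, rfl⟩
    have := hPg k 0
    rwa [pow_zero] at this)
  -- count
  have hlow : p ^ (s + 1) ≤ Nat.card (iterSpan δ (δ y0)) := by
    refine pow_le_card_iterSpan L.nsmul_V δ hδN s _ ?_
    rw [← hhV, ← pow_succ, hδy, show s + 1 + n0 = N - 1 by omega]
    exact hx0
  have hup : ∀ v ∈ iterSpan δ (δ y0), ∃ i : Fin N, v = δ (L.cl x - (g ^ (i : ℕ)) (L.cl x)) := by
    intro v hv
    obtain ⟨u, hu, rfl⟩ : ∃ u ∈ U, δ u = v := by
      induction hv using AddSubgroup.closure_induction with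
      | mem v hv =>
        obtain ⟨i, rfl⟩ := hv
        refine ⟨(δ ^ i) y0, iter_mem_iterSpan _ _ _, ?_⟩
        rw [← hhV, ← pow_succ', pow_succ]; rfl
      | zero => exact ⟨0, zero_mem _, map_zero _⟩
      | add v w _ _ h1 h2 =>
        obtain ⟨u, hu, rfl⟩ := h1
        obtain ⟨u', hu', rfl⟩ := h2
        exact ⟨u + u', add_mem hu hu', map_add _ _ _⟩
      | neg v _ h1 =>
        obtain ⟨u, hu, rfl⟩ := h1
        exact ⟨-u, neg_mem hu, map_neg _ _⟩
    obtain ⟨m, hm, rfl⟩ := hUP hu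
    obtain ⟨α, hα, hmα⟩ := exists_commutator_mem hA hmax le_sup_left (x : G) hMcomm
      ((hMSB.trans hBQ).trans le_sup_right) hm
    obtain ⟨i, hiN, hi⟩ := hclA α hα
    refine ⟨⟨i, hiN⟩, ?_⟩
    have he : (⟨m, hMSB hm⟩ : ↥L.B) = ⟨⁅(x : G), α⁆, hmemB α⟩ *
        ⟨⁅(x : G), α⁆⁻¹ * m, mul_mem (inv_mem (hmemB α)) (hMSB hm)⟩ :=
      Subtype.ext (mul_inv_cancel_left _ m).symm
    rw [he, L.cl_mul, map_add, hi]
    refine add_eq_left.mpr ?_
    show g (L.cl _) - L.cl _ = 0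
    rw [hgdef, L.act_cl, sub_eq_zero]
    refine congrArg L.cl (Subtype.ext ?_)
    show a * (⁅(x : G), α⁆⁻¹ * m) * a⁻¹ = ⁅(x : G), α⁆⁻¹ * m
    rw [hA a haA _ hmα, mul_inv_cancel_right]
  choose f hf using hup
  have hinj : Function.Injective fun v : iterSpan δ (δ y0) => f v.1 v.2 := fun v w h => by
    refine Subtype.ext ((hf v.1 v.2).trans ?_)
    rw [show f v.1 v.2 = f w.1 w.2 from h]
    exact (hf w.1 w.2).symm
  have h := hlow.trans (Nat.card_le_card_of_injective _ hinj)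
  rw [Nat.card_fin, hNdef] at h
  exact absurd ((Nat.pow_le_pow_iff_right hp.out.one_lt).mp h) (by omega)

end CfsgLib.LocalEvenB.ThompsonFive
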