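import Cfsg.Agent.Lib.LocalEvenB.ThompsonFive.Main
import Cfsg.Agent.Lib.Techniques.KInfApplications

/-!
The normal `p`-complement criterion by the automizer of `J(S)`, `p ≥ 5`.
-/

set_option autoImplicit false

namespace CfsgLib.LocalEvenB.ThompsonFive

open Subgroup Cfsg
open scoped commutatorElement

universe u

variable {G : Type u} [Group G] [Finite G] {p : ℕ} [hp : Fact p.Prime]

theorem npc_normalizer_thompsonA (S : Sylow p G)
    (h : ∀ g ∈ Subgroup.normalizer ((thompsonSubgroupAOf (S : Subgroup G) : Subgroup G) : Set G),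
      (orderOf g).Coprime p →
        g ∈ Subgroup.centralizer ((thompsonSubgroupAOf (S : Subgroup G) : Subgroup G) : Set G)) :
    HasNormalPComplement p ↥(Subgroup.normalizer
      ((thompsonSubgroupAOf (S : Subgroup G) : Subgroup G) : Set G)) := by
  set K := thompsonSubgroupAOf (S : Subgroup G) with hK
  set N := Subgroup.normalizer (K : Set G) with hN
  have hKS : K ≤ (S : Subgroup G) := map_subtype_le _
  have hSN : (S : Subgroup G) ≤ N :=
    Subgroup.le_normalizer.trans (CfsgLib.LocalEven.JMeasure.normalizer_le _)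
  have hcen : (S : Subgroup G) ⊓ Subgroup.centralizer (K : Set G) ≤ K := by
    intro x hx
    obtain ⟨hxS, hxc⟩ := mem_inf.mp hx
    obtain ⟨A, hA⟩ := CfsgLib.LocalEven.JMeasure.exists_maxAb (S : Subgroup G)
    exact CfsgLib.LocalEven.JMeasure.le_thompson hA (CfsgLib.LocalEven.JMeasure.mem_of_commutes hA hxS
      fun a ha => mem_centralizer_iff.mp hxc a (CfsgLib.LocalEven.JMeasure.le_thompson hA ha))
  set C := (Subgroup.centralizer (K : Set G)).subgroupOf N with hC
  haveI hCn : C.Normal := Subgroup.Normal.mk fun c hc n => mem_subgroupOf.mpr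
    (le_normalizer_iff.mp (CfsgLib.Techniques.normalizer_le_normalizer_centralizer' K) n n.2 c (mem_subgroupOf.mp hc))
  let S' : Sylow p N := S.subtype hSN
  have hSC : ∀ x ∈ (S' : Subgroup N), x ∈ C → ∀ c ∈ C, c * x = x * c := by
    intro x hx hxC c hc
    apply Subtype.ext
    exact (mem_centralizer_iff.mp (mem_subgroupOf.mp hc) _
      (hcen (mem_inf.mpr ⟨mem_subgroupOf.mp hx, mem_subgroupOf.mp hxC⟩))).symm
  obtain ⟨P⟩ : Nonempty (Sylow p C) := inferInstance
  have hPcen : ∀ x ∈ (P : Subgroup C), ∀ c : C, c * x = x * c := by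
    intro x hx c
    obtain ⟨Q, hQ⟩ := (P.2.map C.subtype).exists_le_sylow
    obtain ⟨n, hn⟩ := MulAction.exists_smul_eq N Q S'
    have hxQ : n * (x : N) * n⁻¹ ∈ (S' : Subgroup N) := by
      rw [← hn, Sylow.coe_subgroup_smul]
      exact Subgroup.smul_mem_pointwise_smul _ (MulAut.conj n) _ (hQ ⟨x, hx, rfl⟩)
    have h1 := hSC _ hxQ (hCn.conj_mem _ x.2 n) (n * (c : N) * n⁻¹) (hCn.conj_mem _ c.2 n)
    exact Subtype.ext ((MulAut.conj n).injective (by
      show n * ((c : N) * x) * n⁻¹ = n * ((x : N) * c) * n⁻¹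
      calc n * ((c : N) * x) * n⁻¹ = (n * c * n⁻¹) * (n * x * n⁻¹) := by group
        _ = (n * x * n⁻¹) * (n * c * n⁻¹) := h1
        _ = _ := by group))
  have hnpc : HasNormalPComplement p C :=
    CfsgLib.Transfer.hasNormalPComplement_of_centralizes P fun Q hQ c _ _ =>
      mem_centralizer_iff.mpr fun x hx => (hPcen x (hQ hx) c).symm
  refine CfsgLib.Transfer.hasNormalPComplement_of_centralizes S' fun X hX g hg hgc => ?_
  have hgC : g ∈ C := mem_subgroupOf.mpr (h (g : G) g.2 (by rwa [orderOf_coe]))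
  refine mem_centralizer_iff.mpr fun x hx => ?_
  have hy : g * x * g⁻¹ * x⁻¹ ∈ X := mul_mem ((mem_normalizer_iff.mp hg x).mp hx) (inv_mem hx)
  have hgC' : (⟨g, hgC⟩ : C) ∈ Cfsg.pResidual p C :=
    (CfsgLib.Transfer.mem_pResidual_iff_coprime hnpc).mpr (by rw [← orderOf_coe]; exact hgc)
  have hxgC : x * g⁻¹ * x⁻¹ ∈ C := hCn.conj_mem _ (inv_mem hgC) x
  have hxg : (⟨_, hxgC⟩ : C) ∈ Cfsg.pResidual p C := by
    refine (CfsgLib.Transfer.mem_pResidual_iff_coprime hnpc).mpr ?_
    rw [← orderOf_coe]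
    show (orderOf (x * g⁻¹ * x⁻¹)).Coprime p
    rw [← MulAut.conj_apply, MulEquiv.orderOf_eq, orderOf_inv]
    exact hgc
  have hcop := (CfsgLib.Transfer.mem_pResidual_iff_coprime hnpc).mp (mul_mem hgC' hxg)
  rw [← orderOf_coe] at hcop
  have hy1 := CfsgLib.Transfer.eq_one_of_coprime_of_isPGroup (S'.2.to_le hX) (g := ⟨_, hy⟩) (by
    rw [orderOf_mk]
    simpa [mul_assoc] using hcop)
  have h4 : g * x * g⁻¹ * x⁻¹ = 1 := congrArg Subtype.val hy1
  rw [mul_inv_eq_one, mul_inv_eq_iff_eq_mul] at h4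
  exact h4.symm


theorem thompsonA_isCharPFunctor :
    IsCharPFunctor.{u} p (fun Q _ => thompsonSubgroupA Q) := by
  refine ⟨fun Q _ _ _ hQ hbot => ?_, fun Q R _ _ _ _ φ => CfsgLib.PLocal.map_equiv_thompsonA φ⟩
  refine CfsgLib.Techniques.thompsonAOf_ne_bot (G := Q) (S := ⊤) ?_ ?_
  · exact top_ne_bot
  · rw [thompsonSubgroupAOf]
    exact (CfsgLib.PLocal.map_equiv_thompsonA (Subgroup.topEquiv (G := Q))).trans hbot

/-- `p ≥ 5`: a normal `p`-complement exists iff `N(J)/C(J)` is a `p`-group. -/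
theorem npc_iff_thompson_automizer (hp5 : 5 ≤ p) (S : Sylow p G) :
    HasNormalPComplement p G ↔
      ∀ g ∈ Subgroup.normalizer (thompsonSubgroupAOf (S : Subgroup G) : Set G), (orderOf g).Coprime p →
        g ∈ Subgroup.centralizer (thompsonSubgroupAOf (S : Subgroup G) : Set G) := by
  refine ⟨fun h g hg hgc => CfsgLib.Transfer.mem_centralizer_of_hasNormalPComplement h
    (S.2.to_le (Subgroup.map_subtype_le _)) hg hgc, fun h => ?_⟩
  exact CfsgLib.Techniques.complement_criterion thompsonA_isCharPFunctor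
    (fun H _ _ _ T hf => no_failure hp5 hf) G (CfsgLib.Techniques.isSec_self G) S
    (npc_normalizer_thompsonA S h)

end CfsgLib.LocalEvenB.ThompsonFive
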