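import Cfsg.Agent.Lib.LocalEvenB.ThompsonFive.Algebra

/-!
A central layer `B₁ ≤ B` with elementary quotient: the operators of conjugation on `B ⧸ B₁` and
on the derived subgroup of `B`, and the commutator form between them.
-/

set_option autoImplicit false

namespace CfsgLib.LocalEvenB.ThompsonFive

open Subgroup
open scoped commutatorElement

variable {G : Type*} [Group G]

/-- Normal subgroups `B₁ ≤ B` with `B₁` central in `B` and `B ⧸ B₁` elementary abelian. -/
structure Layer (G : Type*) [Group G] (p : ℕ) where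
  B : Subgroup G
  B₁ : Subgroup G
  normB : B.Normal
  normB₁ : B₁.Normal
  central : ⁅B, B₁⁆ = ⊥
  comm : ⁅B, B⁆ ≤ B₁
  pow : ∀ b ∈ B, b ^ p ∈ B₁

namespace Layer

variable {p : ℕ} (L : Layer G p)

instance : (L.B₁.subgroupOf L.B).Normal := haveI := L.normB₁; inferInstance

theorem le_center : L.B₁.subgroupOf L.B ≤ center ↥L.B := fun z hz =>
  mem_center_iff.mpr fun b => Subtype.ext
    (commutatorElement_eq_one_iff_mul_comm.mp (mem_bot.mp
      (L.central ▸ commutator_mem_commutator b.2 (mem_subgroupOf.mp hz))))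

theorem commutator_le' : commutator ↥L.B ≤ L.B₁.subgroupOf L.B := by
  rw [commutator_def, commutator_le]
  intro a _ b _
  exact mem_subgroupOf.mpr (L.comm (commutator_mem_commutator a.2 b.2))

instance : CommGroup (↥L.B ⧸ L.B₁.subgroupOf L.B) :=
  { (inferInstance : Group (↥L.B ⧸ L.B₁.subgroupOf L.B)) with
    mul_comm := fun u v => QuotientGroup.induction_on u fun x => QuotientGroup.induction_on v
      fun y => by
        rw [← QuotientGroup.mk_mul, ← QuotientGroup.mk_mul]
        refine QuotientGroup.eq.mpr ?_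
        have h : ⁅y⁻¹, x⁻¹⁆ ∈ L.B₁.subgroupOf L.B := L.commutator_le'
          (commutator_mem_commutator (mem_top _) (mem_top _))
        rwa [show (x * y)⁻¹ * (y * x) = ⁅y⁻¹, x⁻¹⁆ by rw [commutatorElement_def]; group] }

instance : CommGroup ↥(commutator ↥L.B) :=
  { (inferInstance : Group ↥(commutator ↥L.B)) with
    mul_comm := fun u v => Subtype.ext
      ((mem_center_iff.mp (L.le_center (L.commutator_le' v.2)) u).trans rfl) }

/-- `B ⧸ B₁`, written additively. -/
abbrev V := Additive (↥L.B ⧸ L.B₁.subgroupOf L.B)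

/-- The derived subgroup of `B`, written additively. -/
abbrev W := Additive ↥(commutator ↥L.B)

/-- The class of an element of `B`. -/
def cl (x : ↥L.B) : L.V := Additive.ofMul (QuotientGroup.mk x)

theorem cl_surjective (u : L.V) : ∃ x, L.cl x = u := QuotientGroup.mk_surjective u.toMul

theorem cl_mul (x y : ↥L.B) : L.cl (x * y) = L.cl x + L.cl y := rfl

theorem cl_inv (x : ↥L.B) : L.cl x⁻¹ = - L.cl x := rfl

theorem cl_eq_zero {x : ↥L.B} : L.cl x = 0 ↔ (x : G) ∈ L.B₁ :=
  (QuotientGroup.eq_one_iff x).trans mem_subgroupOf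

theorem nsmul_V (u : L.V) : p • u = 0 := by
  obtain ⟨x, rfl⟩ := L.cl_surjective u
  show L.cl (x ^ p) = 0
  rw [L.cl_eq_zero]
  exact L.pow _ x.2

/-- The conjugate of an element of `B`. -/
def conj (g : G) (x : ↥L.B) : ↥L.B := ⟨g * x * g⁻¹, L.normB.conj_mem _ x.2 g⟩

/-- Conjugation by `g` as a homomorphism of `B`. -/
def conjHom (g : G) : ↥L.B →* ↥L.B where
  toFun := L.conj g
  map_one' := Subtype.ext (show g * 1 * g⁻¹ = 1 by group)
  map_mul' x y := Subtype.ext
    (show g * (x.1 * y.1) * g⁻¹ = (g * x.1 * g⁻¹) * (g * y.1 * g⁻¹) by group)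

/-- Conjugation on `B ⧸ B₁`. -/
def act : G →* AddMonoid.End L.V where
  toFun g := MonoidHom.toAdditive (QuotientGroup.map _ _ (L.conjHom g)
    (fun x hx => mem_subgroupOf.mpr (L.normB₁.conj_mem _ (mem_subgroupOf.mp hx) g)))
  map_one' := AddMonoidHom.ext fun u => by
    obtain ⟨x, rfl⟩ := L.cl_surjective u
    exact congrArg L.cl (Subtype.ext (show (1 : G) * x * (1 : G)⁻¹ = x by group))
  map_mul' g h := AddMonoidHom.ext fun u => by
    obtain ⟨x, rfl⟩ := L.cl_surjective u
    exact congrArg L.cl (Subtype.ext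
      (show g * h * x * (g * h)⁻¹ = g * (h * x * h⁻¹) * g⁻¹ by group))

theorem act_cl (g : G) (x : ↥L.B) : L.act g (L.cl x) = L.cl (L.conj g x) := rfl

/-- Conjugation on the derived subgroup of `B`. -/
def actW : G →* AddMonoid.End L.W where
  toFun g := MonoidHom.toAdditive (((L.conjHom g).comp (commutator ↥L.B).subtype).codRestrict _
    (fun z => by
      have h := Subgroup.mem_map_of_mem (L.conjHom g) z.2
      exact Subgroup.commutator_mono le_top le_top
        ((Subgroup.map_commutator (⊤ : Subgroup ↥L.B) ⊤ (L.conjHom g)).le h)))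
  map_one' := AddMonoidHom.ext fun z => Additive.toMul.injective (Subtype.ext (Subtype.ext
    (show (1 : G) * _ * (1 : G)⁻¹ = _ by group; rfl)))
  map_mul' g h := AddMonoidHom.ext fun z => Additive.toMul.injective (Subtype.ext (Subtype.ext
    (show g * h * (z.toMul : ↥L.B).1 * (g * h)⁻¹ = g * (h * (z.toMul : ↥L.B).1 * h⁻¹) * g⁻¹ by
      group)))

theorem coe_actW (g : G) (w : L.W) :
    ((((L.actW g w).toMul : ↥(commutator ↥L.B)) : ↥L.B) : G) =
      g * (((w.toMul : ↥(commutator ↥L.B)) : ↥L.B) : G) * g⁻¹ := rfl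

/-- The element `⁅x, y⁆` of the derived subgroup. -/
def br (x y : ↥L.B) : ↥(commutator ↥L.B) :=
  ⟨⁅x, y⁆, commutator_mem_commutator (mem_top x) (mem_top y)⟩

theorem br_comm {x y : ↥L.B} (z : ↥L.B) : z * ⁅x, y⁆ = ⁅x, y⁆ * z :=
  mem_center_iff.mp (L.le_center (L.commutator_le'
    (commutator_mem_commutator (mem_top x) (mem_top y)))) z

theorem br_mul_right (x y z : ↥L.B) : L.br x (y * z) = L.br x y * L.br x z := by
  refine Subtype.ext ?_
  show ⁅x, y * z⁆ = ⁅x, y⁆ * ⁅x, z⁆
  rw [show ⁅x, y * z⁆ = ⁅x, y⁆ * (y * ⁅x, z⁆ * y⁻¹) by simp only [commutatorElement_def]; group,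
    L.br_comm y, mul_inv_cancel_right]

theorem br_mul_left (x y z : ↥L.B) : L.br (x * y) z = L.br x z * L.br y z := by
  refine Subtype.ext ?_
  show ⁅x * y, z⁆ = ⁅x, z⁆ * ⁅y, z⁆
  rw [show ⁅x * y, z⁆ = (x * ⁅y, z⁆ * x⁻¹) * ⁅x, z⁆ by simp only [commutatorElement_def]; group,
    L.br_comm x, mul_inv_cancel_right, L.br_comm]

/-- The commutator with a fixed first entry. -/
def formInner (x : ↥L.B) : ↥L.B ⧸ L.B₁.subgroupOf L.B →* ↥(commutator ↥L.B) :=
  QuotientGroup.lift _ (MonoidHom.mk' (L.br x) (L.br_mul_right x)) fun z hz => Subtype.ext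
    (commutatorElement_eq_one_iff_mul_comm.mpr (mem_center_iff.mp (L.le_center hz) x))

theorem formInner_mk (x y : ↥L.B) : L.formInner x (QuotientGroup.mk y) = L.br x y := rfl

/-- The commutator form. -/
def formMul : ↥L.B ⧸ L.B₁.subgroupOf L.B →*
    (↥L.B ⧸ L.B₁.subgroupOf L.B →* ↥(commutator ↥L.B)) :=
  QuotientGroup.lift _
    (MonoidHom.mk' L.formInner fun x y => MonoidHom.ext fun u => QuotientGroup.induction_on u
      fun z => L.br_mul_left x y z)
    fun z hz => MonoidHom.ext fun u => QuotientGroup.induction_on u fun y => Subtype.ext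
      (commutatorElement_eq_one_iff_mul_comm.mpr (mem_center_iff.mp (L.le_center hz) y).symm)

/-- The commutator form, written additively. -/
def form : L.V →+ L.V →+ L.W :=
  AddMonoidHom.mk' (fun u => MonoidHom.toAdditive (L.formMul u.toMul)) fun u v => by
    refine AddMonoidHom.ext fun w => ?_
    show Additive.ofMul (L.formMul (u.toMul * v.toMul) w.toMul) = _
    rw [map_mul]
    rfl

theorem form_cl (x y : ↥L.B) : L.form (L.cl x) (L.cl y) = Additive.ofMul (L.br x y) := rfl

theorem form_self (u : L.V) : L.form u u = 0 := by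
  obtain ⟨x, rfl⟩ := L.cl_surjective u
  rw [L.form_cl]
  exact congrArg Additive.ofMul (Subtype.ext (commutatorElement_self x) : L.br x x = 1)

theorem form_act (g : G) (u v : L.V) :
    L.form (L.act g u) (L.act g v) = L.actW g (L.form u v) := by
  obtain ⟨x, rfl⟩ := L.cl_surjective u
  obtain ⟨y, rfl⟩ := L.cl_surjective v
  rw [L.act_cl, L.act_cl, L.form_cl, L.form_cl]
  exact congrArg Additive.ofMul (Subtype.ext
    (map_commutatorElement (L.conjHom g) x y).symm)

theorem commute_of_form_eq_zero {x y : ↥L.B} (h : L.form (L.cl x) (L.cl y) = 0) :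
    (x : G) * y = y * x := by
  rw [L.form_cl] at h
  have h1 : ⁅x, y⁆ = 1 := congrArg (fun z : L.W => ((z.toMul : ↥(commutator ↥L.B)) : ↥L.B)) h
  exact congrArg Subtype.val (commutatorElement_eq_one_iff_mul_comm.mp h1)

/-- Two endomorphisms of the derived subgroup agree once they agree on the form. -/
theorem W_ext {M : Type*} [AddCommGroup M] {f₁ f₂ : L.W →+ M}
    (h : ∀ u v, f₁ (L.form u v) = f₂ (L.form u v)) : f₁ = f₂ := by
  refine AddMonoidHom.ext fun w => ?_
  obtain ⟨⟨z, hz⟩, rfl⟩ : ∃ q : ↥(commutator ↥L.B), Additive.ofMul q = w := ⟨w.toMul, rfl⟩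
  rw [commutator_eq_closure] at hz
  induction hz using Subgroup.closure_induction with
  | mem c hc =>
    obtain ⟨x, y, rfl⟩ := hc
    exact h (L.cl x) (L.cl y)
  | one => exact (map_zero f₁).trans (map_zero f₂).symm
  | mul c d hc hd ihc ihd =>
    rw [← commutator_eq_closure] at hc hd
    show f₁ (Additive.ofMul ⟨c, hc⟩ + Additive.ofMul ⟨d, hd⟩) =
      f₂ (Additive.ofMul ⟨c, hc⟩ + Additive.ofMul ⟨d, hd⟩)
    rw [map_add, map_add, ihc hc, ihd hd]
  | inv c hc ihc =>
    rw [← commutator_eq_closure] at hc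
    show f₁ (- Additive.ofMul ⟨c, hc⟩) = f₂ (- Additive.ofMul ⟨c, hc⟩)
    rw [map_neg, map_neg, ihc hc]

theorem nsmul_W (w : L.W) : p • w = 0 := by
  have h : (p • AddMonoidHom.id L.W) = 0 := L.W_ext fun u v => by
    show p • L.form u v = 0
    rw [← AddMonoidHom.nsmul_apply, ← map_nsmul, L.nsmul_V, map_zero, AddMonoidHom.zero_apply]
  exact DFunLike.congr_fun h w

theorem act_eq_one {q : G} (h : ∀ b ∈ L.B, ⁅b, q⁆ ∈ L.B₁) : L.act q = 1 := by
  refine AddMonoidHom.ext fun u => ?_
  obtain ⟨x, rfl⟩ := L.cl_surjective u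
  show L.cl (L.conj q x) = L.cl x
  refine eq_of_sub_eq_zero ?_
  rw [sub_eq_add_neg, ← L.cl_inv, ← L.cl_mul, L.cl_eq_zero]
  show q * x * q⁻¹ * (x : G)⁻¹ ∈ L.B₁
  rw [show q * x * q⁻¹ * (x : G)⁻¹ = ⁅(x : G), q⁆⁻¹ by
    rw [commutatorElement_inv, commutatorElement_def]]
  exact inv_mem (h x x.2)

theorem actW_eq_one {q : G} (h : L.act q = 1) : L.actW q = 1 :=
  L.W_ext fun u v => (L.form_act q u v).symm.trans (by rw [h]; rfl)

end Layer

end CfsgLib.LocalEvenB.ThompsonFive
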