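import Cfsg.Agent.Lib.LocalEvenB.ThompsonFive.Terminal
import Cfsg.Agent.Lib.LocalEven.ThompsonMeasure
import Cfsg.Agent.Lib.Techniques.CriterionStructure
import Cfsg.Agent.Lib.OddLocal.Basic

/-!
# Thompson's conjecture for `p ≥ 5`

An abelian subgroup of largest order induces the identity on an abelian `p'`-group `M ⧸ Q` acting
faithfully on the normal `p`-subgroup `Q`.  Consequently the normalizer of `J(S)` decides whether
there is a normal `p`-complement.
-/

set_option autoImplicit false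

namespace CfsgLib.LocalEvenB.ThompsonFive

open Subgroup Cfsg
open scoped commutatorElement

universe u

variable {G : Type u} [Group G] [Finite G] {p : ℕ} [hp : Fact p.Prime]

/-- The commutators with `h` lying in `Q`. -/
def relCentralizer (M Q : Subgroup G) (hMQ : M ≤ normalizer (Q : Set G)) (h : G) : Subgroup G where
  carrier := {x | x ∈ M ∧ ⁅x, h⁆ ∈ Q}
  one_mem' := ⟨one_mem _, by rw [commutatorElement_one_left]; exact one_mem _⟩
  mul_mem' := by
    rintro x y ⟨hx, hx'⟩ ⟨hy, hy'⟩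
    refine ⟨mul_mem hx hy, ?_⟩
    rw [show ⁅x * y, h⁆ = x * ⁅y, h⁆ * x⁻¹ * ⁅x, h⁆ by simp only [commutatorElement_def]; group]
    exact mul_mem ((mem_normalizer_iff.mp (hMQ hx) _).mp hy') hx'
  inv_mem' := by
    rintro x ⟨hx, hx'⟩
    refine ⟨inv_mem hx, ?_⟩
    rw [show ⁅x⁻¹, h⁆ = x⁻¹ * ⁅x, h⁆⁻¹ * x⁻¹⁻¹ by simp only [commutatorElement_def]; group]
    exact (mem_normalizer_iff.mp (inv_mem (hMQ hx)) _).mp (inv_mem hx')

theorem mem_of_pow_mem_of_pow_mem {Q : Subgroup G} {c : G} {m n : ℕ} (hmn : m.Coprime n)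
    (hm : c ^ m ∈ Q) (hn : c ^ n ∈ Q) : c ∈ Q := by
  have h : c = (c ^ m) ^ (Nat.gcdA m n) * (c ^ n) ^ (Nat.gcdB m n) := by
    conv_lhs => rw [← pow_one c, ← hmn, ← zpow_natCast, Nat.gcd_eq_gcd_ab]
    rw [← zpow_natCast, ← zpow_natCast, ← zpow_mul, ← zpow_mul, zpow_add]
  rw [h]
  exact mul_mem (zpow_mem hm _) (zpow_mem hn _)

theorem pow_relIndex_mem {Q M : Subgroup G} (hMQ : M ≤ normalizer (Q : Set G)) {c : G}
    (hc : c ∈ M) : c ^ Q.relIndex M ∈ Q := by
  haveI : (Q.subgroupOf M).Normal := normal_subgroupOf_of_le_normalizer hMQ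
  exact mem_subgroupOf.mp ((Q.subgroupOf M).pow_index_mem ⟨c, hc⟩)

/-- An abelian subgroup of largest order acts trivially on an abelian `p'`-section `M ⧸ Q`. -/
theorem offender_trivial (hp5 : 5 ≤ p) : ∀ (n : ℕ) (Q M A : Subgroup G),
    Nat.card A ≤ n + Nat.card ↥(A ⊓ Q) → IsPGroup p Q → Q ≤ M → M ≤ normalizer (Q : Set G) →
    A ≤ normalizer (Q : Set G) → A ≤ normalizer (M : Set G) → ⁅M, M⁆ ≤ Q →
    (Q.relIndex M).Coprime p → M ⊓ centralizer (Q : Set G) ≤ Q →
    (∀ a ∈ A, ∀ b ∈ A, a * b = b * a) → IsPGroup p A →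
    (∀ X : Subgroup G, X ≤ A ⊔ Q → IsMulCommutative X → Nat.card X ≤ Nat.card A) →
    ⁅M, A⁆ ≤ Q := by
  intro n
  induction n using Nat.strong_induction_on with
  | _ n ih => ?_
  intro Q M A hn hQ hQM hMQ hAQ hAM hMc hcop hC hA hAp hmax
  by_contra hne
  by_cases hterm : ∀ h ∈ A, h ∉ Q → ∀ m ∈ M, ⁅m, h⁆ ∈ Q → ∀ α ∈ A, ⁅m, α⁆ ∈ Q
  · set H := A ⊔ M with hH
    haveI : (Q.subgroupOf H).Normal := normal_subgroupOf_of_le_normalizer (sup_le hAQ hMQ)
    haveI : (M.subgroupOf H).Normal :=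
      normal_subgroupOf_of_le_normalizer (sup_le hAM Subgroup.le_normalizer)
    have hAH : A ≤ H := le_sup_left
    have hMH : M ≤ H := le_sup_right
    have hQH : Q ≤ H := hQM.trans hMH
    refine terminal_contradiction (G := ↥H) (p := p) hp5 (Q.subgroupOf H) (M.subgroupOf H)
      (A.subgroupOf H) ?_ hQ.comap_subtype ?_ ?_ ?_ ?_ ?_ hAp.comap_subtype ?_ ?_ ?_
    · rw [← subgroupOf_sup hAH hMH, ← hH, subgroupOf_self]
    · exact fun x hx => hQM hx
    · rw [commutator_le]
      exact fun x hx y hy => hMc (commutator_mem_commutator (mem_subgroupOf.mp hx) (mem_subgroupOf.mp hy))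
    · rwa [relIndex_subgroupOf hMH]
    · intro x hx
      refine mem_subgroupOf.mpr (hC ⟨hx.1, mem_centralizer_iff.mpr fun q hq => ?_⟩)
      exact congrArg Subtype.val (mem_centralizer_iff.mp hx.2 ⟨q, hQH hq⟩ hq)
    · exact fun a ha b hb => Subtype.ext (hA _ ha _ hb)
    · intro X hX hXc
      rw [Nat.card_congr (subgroupOfEquivOfLe hAH).toEquiv, ← card_map_of_injective H.subtype_injective]
      refine hmax _ ?_ ?_
      · refine (map_mono hX).trans ?_
        rw [Subgroup.map_sup, subgroupOf_map_subtype, subgroupOf_map_subtype]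
        exact sup_le_sup inf_le_left inf_le_left
      · refine le_centralizer_iff_isMulCommutative.1 ?_
        rintro _ ⟨u, hu, rfl⟩
        rw [mem_centralizer_iff]
        rintro _ ⟨v, hv, rfl⟩
        rw [← map_mul, ← map_mul, CfsgLib.PLocal.comm_of_mem hXc hv hu]
    · intro hle
      refine hne ((commutator_le).mpr fun m hm α hα => ?_)
      exact hle (commutator_mem_commutator (g₁ := ⟨m, hMH hm⟩) (g₂ := ⟨α, hAH hα⟩)
        (show (⟨m, hMH hm⟩ : H) ∈ M.subgroupOf H from hm)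
        (show (⟨α, hAH hα⟩ : H) ∈ A.subgroupOf H from hα))
    · exact fun h hh hhQ m hm hmh α hα => hterm _ hh hhQ _ hm hmh _ hα
  · push Not at hterm
    obtain ⟨h, hh, hhQ, m, hm, hmh, α, hα, hmα⟩ := hterm
    set C := relCentralizer M Q hMQ h with hCdef
    have hQC : Q ≤ C := fun q hq => ⟨hQM hq, by
      rw [show ⁅q, h⁆ = q * (h * q⁻¹ * h⁻¹) by simp only [commutatorElement_def]; group]
      exact mul_mem hq ((mem_normalizer_iff.mp (hAQ hh) _).mp (inv_mem hq))⟩
    have hAC : A ≤ normalizer (C : Set G) := by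
      rw [le_normalizer_iff]
      rintro β hβ x ⟨hx, hx'⟩
      refine ⟨(mem_normalizer_iff.mp (hAM hβ) x).mp hx, ?_⟩
      rw [show ⁅β * x * β⁻¹, h⁆ = β * ⁅x, h⁆ * β⁻¹ from by
        conv_lhs => rw [show h = β * h * β⁻¹ by rw [hA β hβ h hh, mul_inv_cancel_right]]
        exact (map_commutatorElement (MulAut.conj β) x h).symm]
      exact (mem_normalizer_iff.mp (hAQ hβ) _).mp hx'
    set Z := zpowers h with hZ
    have hZA : Z ≤ A := zpowers_le.mpr hh
    set Q' := Q ⊔ Z with hQ'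
    set M' := C ⊔ Q' with hM'
    have hAQ' : A ≤ normalizer (Q' : Set G) := by
      rw [le_normalizer_iff]
      intro β hβ x hx
      obtain ⟨q, hq, z, hz, rfl⟩ := (CfsgLib.OddLocal.mem_sup_of_le_normalizer (hZA.trans hAQ)).mp hx
      rw [show β * (q * z) * β⁻¹ = (β * q * β⁻¹) * z by
        rw [mul_assoc, mul_assoc q, hA z (hZA hz) β⁻¹ (inv_mem hβ)]; group]
      exact mul_mem (mem_sup_left ((mem_normalizer_iff.mp (hAQ hβ) q).mp hq)) (mem_sup_right hz)
    have hCQ' : C ≤ normalizer (Q' : Set G) := by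
      rw [le_normalizer_iff]
      rintro x ⟨hx, hx'⟩ y hy
      have hhC : x * h * x⁻¹ ∈ Q' := by
        rw [show x * h * x⁻¹ = ⁅x, h⁆ * h by simp only [commutatorElement_def]; group]
        exact mul_mem (mem_sup_left hx') (mem_sup_right (mem_zpowers h))
      obtain ⟨q, hq, z, ⟨k, rfl⟩, rfl⟩ :=
        (CfsgLib.OddLocal.mem_sup_of_le_normalizer (hZA.trans hAQ)).mp hy
      rw [show x * (q * h ^ k) * x⁻¹ = (x * q * x⁻¹) * (x * h * x⁻¹) ^ k by rw [conj_zpow]; group]
      exact mul_mem (mem_sup_left ((mem_normalizer_iff.mp (hMQ hx) q).mp hq)) (zpow_mem hhC k)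
    have hM'Q' : M' ≤ normalizer (Q' : Set G) := sup_le hCQ' Subgroup.le_normalizer
    have hQ'p : IsPGroup p Q' := hQ.to_sup_of_normal_left' (hAp.to_le hZA) (hZA.trans hAQ)
    have hmem : ∀ x ∈ M', ∃ q ∈ Q', ∃ c ∈ C, x = q * c := fun x hx =>
      (CfsgLib.OddLocal.mem_sup_of_le_normalizer hCQ').mp (sup_comm C Q' ▸ hx)
    have hM'c : ⁅M', M'⁆ ≤ Q' := by
      rw [commutator_le]
      intro x hx y hy
      obtain ⟨q, hq, c, hc, rfl⟩ := hmem x hx
      obtain ⟨q', hq', d, hd, rfl⟩ := hmem y hy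
      have h1 : ⁅c, d⁆ ∈ Q' := mem_sup_left (hMc (commutator_mem_commutator hc.1 hd.1))
      have hN : ∀ u ∈ M', ∀ w ∈ Q', u * w * u⁻¹ ∈ Q' := fun u hu w hw =>
        (mem_normalizer_iff.mp (hM'Q' hu) w).mp hw
      have hcM : c ∈ M' := mem_sup_left hc
      have hdM : d ∈ M' := mem_sup_left hd
      rw [show ⁅q * c, q' * d⁆ = q * (c * q' * c⁻¹) * ⁅c, d⁆ * (d * q⁻¹ * d⁻¹) * q'⁻¹ by
        simp only [commutatorElement_def]; group]
      exact mul_mem (mul_mem (mul_mem (mul_mem hq (hN c hcM q' hq')) h1)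
        (hN d hdM _ (inv_mem hq))) (inv_mem hq')
    have hcop' : (Q'.relIndex M').Coprime p := by
      have h1 : ∀ c ∈ C, c ^ Q.relIndex M ∈ Q' := fun c hc =>
        mem_sup_left (pow_relIndex_mem hMQ hc.1)
      haveI : (Q'.subgroupOf M').Normal := normal_subgroupOf_of_le_normalizer hM'Q'
      rw [Nat.coprime_comm, hp.out.coprime_iff_not_dvd]
      intro hdvd
      change p ∣ (Q'.subgroupOf M').index at hdvd
      rw [index_eq_card] at hdvd
      obtain ⟨u, hu⟩ := exists_prime_orderOf_dvd_card' p hdvd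
      obtain ⟨⟨x, hx⟩, rfl⟩ := QuotientGroup.mk_surjective u
      obtain ⟨q, hq, c, hc, rfl⟩ := hmem x hx
      have hpow : (q * c) ^ Q.relIndex M ∈ Q' := by
        have key : ∀ k : ℕ, (q * c) ^ k * (c ^ k)⁻¹ ∈ Q' := by
          intro k
          induction k with
          | zero => simp [one_mem]
          | succ k ihk =>
            rw [show (q * c) ^ (k + 1) * (c ^ (k + 1))⁻¹ =
              ((q * c) ^ k * (c ^ k)⁻¹) * (c ^ k * q * (c ^ k)⁻¹) by
              rw [pow_succ, pow_succ]; group]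
            exact mul_mem ihk ((mem_normalizer_iff.mp (pow_mem (hCQ' hc) k) q).mp hq)
        simpa using mul_mem (key (Q.relIndex M)) (h1 c hc)
      have h2 := orderOf_dvd_of_pow_eq_one (show ((QuotientGroup.mk (⟨q * c, hx⟩ : M') :
          ↥M' ⧸ Q'.subgroupOf M') ^ Q.relIndex M) = 1 from by
        rw [← QuotientGroup.mk_pow, QuotientGroup.eq_one_iff, mem_subgroupOf]
        exact hpow)
      rw [hu] at h2
      exact (hp.out.coprime_iff_not_dvd.mp (Nat.coprime_comm.mp hcop)) h2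
    have hinter : ∀ c ∈ M, c ∈ Q' → c ∈ Q := by
      intro c hc hc'
      obtain ⟨k, hk⟩ := hQ'p ⟨c, hc'⟩
      refine mem_of_pow_mem_of_pow_mem (m := p ^ k) (hcop.symm.pow_left k) ?_ (pow_relIndex_mem hMQ hc)
      rw [show c ^ p ^ k = 1 from congrArg Subtype.val hk]
      exact one_mem _
    have hC' : M' ⊓ centralizer (Q' : Set G) ≤ Q' := by
      intro x hx
      obtain ⟨q, hq, c, hc, rfl⟩ := hmem x hx.1
      obtain ⟨q₀, hq₀, z, hz, rfl⟩ := (CfsgLib.OddLocal.mem_sup_of_le_normalizer (hZA.trans hAQ)).mp hq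
      have hcz : ⁅c, z⁆ ∈ Q := by
        obtain ⟨k, rfl⟩ := hz
        have key : ∀ w ∈ Z, ⁅c, w⁆ ∈ Q := by
          intro w hw
          have hle : Z ≤ relCentralizer A Q hAQ c := zpowers_le.mpr ⟨hh, by
            rw [← commutatorElement_inv]; exact inv_mem hc.2⟩
          rw [← commutatorElement_inv]
          exact inv_mem (hle hw).2
        exact key _ ⟨k, rfl⟩
      obtain ⟨k, hk⟩ := (hAp.to_le hZA) ⟨z, hz⟩
      have hzk : z ^ p ^ k = 1 := congrArg Subtype.val hk
      haveI : (Q.subgroupOf (normalizer (Q : Set G))).Normal := normal_in_normalizer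
      let π := QuotientGroup.mk' (Q.subgroupOf (normalizer (Q : Set G)))
      have hπ : ∀ (w : G) (hw : w ∈ normalizer (Q : Set G)), π ⟨w, hw⟩ = 1 ↔ w ∈ Q := fun w hw =>
        (QuotientGroup.eq_one_iff _).trans mem_subgroupOf
      have hq₀N : q₀ ∈ normalizer (Q : Set G) := Subgroup.le_normalizer hq₀
      have hzN := hAQ (hZA hz)
      have hcN := hMQ hc.1
      have hcomm : π ⟨c, hcN⟩ * π ⟨z, hzN⟩ = π ⟨z, hzN⟩ * π ⟨c, hcN⟩ := by
        refine commutatorElement_eq_one_iff_mul_comm.mp ?_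
        rw [← map_commutatorElement]
        exact (hπ ⁅c, z⁆ (⁅(⟨c, hcN⟩ : normalizer (Q : Set G)), (⟨z, hzN⟩ : normalizer (Q : Set G))⁆).2).mpr hcz
      set N := p ^ k with hN
      have hxN : (q₀ * z * c) ^ N * (c ^ N)⁻¹ ∈ Q := by
        refine (hπ _ (mul_mem (pow_mem (mul_mem (mul_mem hq₀N hzN) hcN) N)
          (inv_mem (pow_mem hcN N)))).mp ?_
        show π ((⟨q₀, hq₀N⟩ * ⟨z, hzN⟩ * ⟨c, hcN⟩) ^ N * (⟨c, hcN⟩ ^ N)⁻¹) = 1
        rw [map_mul, map_pow, map_mul, map_mul, (hπ q₀ hq₀N).mpr hq₀, one_mul, map_inv, map_pow,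
          (show Commute (π ⟨z, hzN⟩) (π ⟨c, hcN⟩) from hcomm.symm).mul_pow,
          ← map_pow π ⟨z, hzN⟩, show (⟨z, hzN⟩ : normalizer (Q : Set G)) ^ N = 1 from Subtype.ext hzk,
          map_one, one_mul, mul_inv_cancel]
      have hxC : (q₀ * z * c) ^ N ∈ M ⊓ centralizer (Q : Set G) := by
        refine ⟨?_, pow_mem (centralizer_le (SetLike.coe_subset_coe.2 le_sup_left) hx.2) N⟩
        simpa using mul_mem (hQM hxN) (pow_mem hc.1 N)
      have hcN' : c ^ N ∈ Q := by
        have := mul_mem (inv_mem hxN) (hC hxC)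
        simpa using this
      have hcQ : c ∈ Q :=
        mem_of_pow_mem_of_pow_mem (hcop.symm.pow_left k) hcN' (pow_relIndex_mem hMQ hc.1)
      exact mul_mem (mul_mem (mem_sup_left hq₀) (mem_sup_right hz)) (mem_sup_left hcQ)
    have hsup : A ⊔ Q' ≤ A ⊔ Q := sup_le le_sup_left (sup_le le_sup_right (hZA.trans le_sup_left))
    have hcardlt : Nat.card ↥(A ⊓ Q) < Nat.card ↥(A ⊓ Q') :=
      Set.Finite.card_lt_card (Set.toFinite _) (SetLike.coe_ssubset_coe.2
        (lt_of_le_of_ne (inf_le_inf_left _ le_sup_left) fun he =>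
          hhQ (he.ge ⟨hh, mem_sup_right (mem_zpowers h)⟩).2))
    have hle : Nat.card ↥(A ⊓ Q') ≤ Nat.card A := Subgroup.card_le_of_le inf_le_left
    have hres := ih (Nat.card A - Nat.card ↥(A ⊓ Q')) (by omega) Q' M' A (by omega) hQ'p
      le_sup_right hM'Q' hAQ' ?_ hM'c hcop' hC' hA hAp fun X hX => hmax X (hX.trans hsup)
    · have h1 : ⁅m, α⁆ ∈ Q' :=
        hres (commutator_mem_commutator (mem_sup_left (show m ∈ C from ⟨hm, hmh⟩)) hα)
      refine hmα (hinter _ ?_ h1)
      rw [show ⁅m, α⁆ = m * (α * m⁻¹ * α⁻¹) by simp only [commutatorElement_def]; group]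
      exact mul_mem hm ((mem_normalizer_iff.mp (hAM hα) _).mp (inv_mem hm))
    · intro β hβ
      exact Transfer.map_conj_eq_self_iff.mp (by
        rw [hM', Subgroup.map_sup, Transfer.map_conj_eq_self_iff.mpr (hAC hβ),
          Transfer.map_conj_eq_self_iff.mpr (hAQ' hβ)])

/-- No minimal failure of the `p`-complement criterion by `J`. -/
theorem no_failure (hp5 : 5 ≤ p) {S : Sylow p G}
    (hf : CfsgLib.Techniques.CriterionFailure (fun Q _ => thompsonSubgroupA Q) S) : False := by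
  set Q := pCore p G with hQ
  haveI : Q.Normal := CfsgLib.Core.normal_pCore p G
  set K := pResidual p (G ⧸ Q) with hK
  haveI := hf.isMulCommutative.1
  set M := K.comap (QuotientGroup.mk' Q) with hM
  have hQM : Q ≤ M := fun q hq => by
    rw [hM, mem_comap, show QuotientGroup.mk' Q q = 1 from (QuotientGroup.eq_one_iff q).mpr hq]
    exact one_mem _
  have hker : ∀ x, QuotientGroup.mk' Q x = 1 ↔ x ∈ Q := fun x => QuotientGroup.eq_one_iff x
  haveI : M.Normal := Subgroup.Normal.comap inferInstance _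
  have hMc : ⁅M, M⁆ ≤ Q := by
    rw [commutator_le]
    intro x hx y hy
    rw [← hker, map_commutatorElement, commutatorElement_eq_one_iff_mul_comm]
    exact congrArg Subtype.val (mul_comm' (⟨_, hx⟩ : K) ⟨_, hy⟩)
  have hcop : (Q.relIndex M).Coprime p := by
    have h := Subgroup.relIndex_ker (K := M) (QuotientGroup.mk' Q)
    rw [QuotientGroup.ker_mk', hM,
      Subgroup.map_comap_eq_self_of_surjective (QuotientGroup.mk'_surjective _)] at h
    rw [hM, h]
    exact CfsgLib.Transfer.hasNormalPComplement_iff_coprime.mp hf.quotient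
  have hle : ∀ A, CfsgLib.LocalEven.JMeasure.MaxAb (S : Subgroup G) A → A ≤ Q := by
    intro A hA
    have hAp : IsPGroup p A := S.2.to_le hA.1
    have htriv : ⁅M, A⁆ ≤ Q :=
      offender_trivial hp5 (Nat.card A) Q M A (Nat.le_add_right _ _) (CfsgLib.Core.isPGroup_pCore p G)
        hQM Subgroup.le_normalizer_of_normal Subgroup.le_normalizer_of_normal
        Subgroup.le_normalizer_of_normal hMc hcop (inf_le_right.trans hf.charP)
        (fun a ha b hb => CfsgLib.PLocal.comm_of_mem hA.2.1 ha hb) hAp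
        fun X hX hXc => hA.2.2 X (hX.trans (sup_le hA.1 hf.lt.le)) hXc
    -- the normal core `A Q` of the quotient is a `p`-group centralizing `K`
    set N := (A ⊔ Q).map (QuotientGroup.mk' Q) with hNdef
    have hcK : N ≤ centralizer (K : Set (G ⧸ Q)) := by
      rintro _ ⟨x, hx, rfl⟩
      rw [mem_centralizer_iff]
      intro k hk
      obtain ⟨m, rfl⟩ := QuotientGroup.mk'_surjective Q k
      obtain ⟨a, ha, q, hq, rfl⟩ := mem_sup_of_normal_right.mp hx
      rw [map_mul, (hker q).mpr hq, mul_one, ← commutatorElement_eq_one_iff_mul_comm,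
        ← map_commutatorElement, hker]
      exact htriv (commutator_mem_commutator hk ha)
    set P := (S : Subgroup G).map (QuotientGroup.mk' Q) ⊓ centralizer (K : Set (G ⧸ Q)) with hP
    have hPn : P.Normal := by
      have htop : (⊤ : Subgroup (G ⧸ Q)) = (S : Subgroup G).map (QuotientGroup.mk' Q) ⊔ K := by
        let S' : Sylow p (G ⧸ Q) := S.mapSurjective (QuotientGroup.mk'_surjective Q)
        rw [sup_comm]
        exact (CfsgLib.Transfer.sup_sylow_eq_top CfsgLib.Transfer.isPGroup_quotient_pResidual S').symm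
          |>.trans (by rw [Sylow.coe_mapSurjective])
      rw [← normalizer_eq_top_iff, eq_top_iff, htop]
      refine sup_le ?_ ?_
      · rw [le_normalizer_iff]
        intro s hs x hx
        exact Subgroup.mem_inf.mpr ⟨mul_mem (mul_mem hs hx.1) (inv_mem hs),
          (Subgroup.Normal.conj_mem inferInstance _ hx.2 s)⟩
      · rw [le_normalizer_iff]
        intro k hk x hx
        rw [mem_centralizer_iff.mp hx.2 k hk, mul_inv_cancel_right]
        exact hx
    have hPbot : P ≤ ⊥ := CfsgLib.Core.pCore_quotient_pCore p G ▸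
      CfsgLib.Core.le_pCore ((S.2.map _).to_le inf_le_left)
    intro a ha
    rw [← hker]
    exact (Subgroup.mem_bot).mp (hPbot ⟨mem_map_of_mem _ (hA.1 ha),
      hcK (mem_map_of_mem _ (mem_sup_left ha))⟩)
  apply hf.not_normal
  show (thompsonSubgroupAOf (S : Subgroup G)).Normal
  rw [← CfsgLib.Techniques.thompsonAOf_eq_of_le (CfsgLib.Core.pCore_le_sylow S) hle,
    ← normalizer_eq_top_iff, eq_top_iff, ← normalizer_eq_top Q]
  exact CfsgLib.LocalEven.JMeasure.normalizer_le Q

end CfsgLib.LocalEvenB.ThompsonFive
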