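import Mathlib

/-!
An abelian `p'`-group acts trivially when a fixed-point-free cyclic group of `p`-power order `N`
acting on it has vanishing norm in a representation.
-/

set_option autoImplicit false

namespace CfsgLib.LocalEvenB.ThompsonFive

open Finset

variable {p : ℕ} [hp : Fact p.Prime]

open scoped IsMulCommutative in
theorem hom_eq_one_of_norm {Y R : Type*} [Group Y] [Finite Y] [Ring R] (ρ : Y →* R)
    (T : Subgroup Y) [hTc : IsMulCommutative T] (hcop : (Nat.card T).Coprime p)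
    (hchar : (p : R) = 0) (g : Y) (hg : g ∈ Subgroup.normalizer (T : Set Y)) (N : ℕ) (hN1 : 1 < N)
    (hfix : ∀ i : ℕ, 0 < i → i < N → ∀ t ∈ T, g ^ i * t * (g ^ i)⁻¹ = t → t = 1)
    (hsum : ∑ i ∈ range N, ρ g ^ i = 0) {t : Y} (ht : t ∈ T) : ρ t = 1 := by
  classical
  have := Fintype.ofFinite T
  have hconj : ∀ (i : ℕ) (u : T), g ^ i * (u : Y) * (g ^ i)⁻¹ ∈ T := fun i u =>
    (Subgroup.mem_normalizer_iff.mp (pow_mem hg i) u).mp u.2
  -- every `u * g` is a conjugate of `g`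
  have hall : ∀ u : T, ∑ i ∈ range N, ρ ((u : Y) * g) ^ i = 0 := by
    let d : T → T := fun w => w * ⟨g * (w : Y)⁻¹ * g⁻¹, by
      simpa using hconj 1 w⁻¹⟩
    have hd : Function.Injective d := by
      intro w w' hww
      have h1 : (w : Y) * (g * (w : Y)⁻¹ * g⁻¹) = (w' : Y) * (g * (w' : Y)⁻¹ * g⁻¹) :=
        congrArg Subtype.val hww
      have h2 : g ^ 1 * ((w'⁻¹ * w : T) : Y) * (g ^ 1)⁻¹ = ((w'⁻¹ * w : T) : Y) := by
        have e1 : (w' : Y)⁻¹ * w * g * (w : Y)⁻¹ * (w' : Y) * g⁻¹ = 1 := by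
          calc (w' : Y)⁻¹ * w * g * (w : Y)⁻¹ * (w' : Y) * g⁻¹
              = (w' : Y)⁻¹ * ((w : Y) * (g * (w : Y)⁻¹ * g⁻¹)) * (g * (w' : Y) * g⁻¹) := by group
            _ = 1 := by rw [h1]; group
        rw [mul_inv_eq_one] at e1
        rw [pow_one, Subgroup.coe_mul, Subgroup.coe_inv]
        calc g * ((w' : Y)⁻¹ * w) * g⁻¹
            = ((w' : Y)⁻¹ * w * g * (w : Y)⁻¹ * (w' : Y)) * ((w' : Y)⁻¹ * w) * g⁻¹ := by
              rw [e1]
          _ = (w' : Y)⁻¹ * w := by group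
      have h3 := hfix 1 one_pos hN1 _ (w'⁻¹ * w).2 h2
      exact (inv_mul_eq_one.mp (Subtype.ext h3 : w'⁻¹ * w = 1)).symm
    intro u
    obtain ⟨w, rfl⟩ := (Finite.injective_iff_surjective.mp hd) u
    have e : ((d w : T) : Y) * g = (w : Y) * g * (w : Y)⁻¹ := by
      show (w : Y) * (g * (w : Y)⁻¹ * g⁻¹) * g = _
      group
    rw [e]
    have e2 : ∀ i : ℕ, ρ ((w : Y) * g * (w : Y)⁻¹) ^ i = ρ (w : Y) * ρ g ^ i * ρ (w : Y)⁻¹ := by
      intro i
      rw [← map_pow, conj_pow, map_mul, map_mul, map_pow]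
    simp only [e2, ← Finset.sum_mul, ← Finset.mul_sum, hsum, mul_zero, zero_mul]
  -- `(u g)^i = c i u * g^i` with `c i` bijective on `T`
  let c : ℕ → T →* T := fun i => Nat.rec 1 (fun j cj =>
    { toFun := fun u => cj u * ⟨g ^ j * u * (g ^ j)⁻¹, hconj j u⟩
      map_one' := by rw [map_one, one_mul]; exact Subtype.ext (by simp)
      map_mul' := fun a b => by
        rw [map_mul]
        have : (⟨g ^ j * ((a * b : T) : Y) * (g ^ j)⁻¹, hconj j (a * b)⟩ : T) =
            ⟨g ^ j * a * (g ^ j)⁻¹, hconj j a⟩ * ⟨g ^ j * b * (g ^ j)⁻¹, hconj j b⟩ :=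
          Subtype.ext (by simp [mul_assoc])
        rw [this]
        exact mul_mul_mul_comm _ _ _ _ }) i
  have hcpow : ∀ (i : ℕ) (u : T), ((u : Y) * g) ^ i = (c i u : Y) * g ^ i := by
    intro i u
    induction i with
    | zero => simp [c]
    | succ j ih =>
      rw [pow_succ, ih, pow_succ]
      show _ = ((c j u * ⟨g ^ j * u * (g ^ j)⁻¹, hconj j u⟩ : T) : Y) * (g ^ j * g)
      rw [Subgroup.coe_mul]
      group
  have hcbij : ∀ i, 0 < i → i < N → Function.Bijective (c i) := by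
    intro i hi hip
    refine Finite.injective_iff_bijective.mp ((injective_iff_map_eq_one _).mpr fun u hu => ?_)
    have h1 : ((u : Y) * g) ^ i = g ^ i := by rw [hcpow, hu, Subgroup.coe_one, one_mul]
    have h2 : Commute ((u : Y) * g) (g ^ i) := h1 ▸ (Commute.self_pow _ i)
    have h3 : g ^ i * (u : Y) * (g ^ i)⁻¹ = u := by
      have h4 : (u : Y) * g * g ^ i = g ^ i * ((u : Y) * g) := h2
      calc g ^ i * (u : Y) * (g ^ i)⁻¹ = g ^ i * ((u : Y) * g) * g⁻¹ * (g ^ i)⁻¹ := by group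
        _ = (u : Y) * g * g ^ i * g⁻¹ * (g ^ i)⁻¹ := by rw [h4]
        _ = u := by group
    exact Subtype.ext (hfix i hi hip u u.2 h3)
  set E := ∑ u : T, ρ (u : Y) with hE
  set n := Fintype.card T with hn
  have hEt : ∀ u : T, ρ (u : Y) * E = E := fun u => by
    rw [hE, Finset.mul_sum]
    exact Fintype.sum_equiv (Equiv.mulLeft u) _ _ fun w => by
      rw [← map_mul]; rfl
  have hEE : E * E = (n : R) * E := by
    conv_lhs => rw [hE, Finset.sum_mul]
    rw [show (∑ u : T, ρ (u : Y) * ∑ u : T, ρ (u : Y)) = ∑ _u : T, E from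
      Finset.sum_congr rfl fun u _ => hEt u, Finset.sum_const, Finset.card_univ, nsmul_eq_mul]
  set S' := ∑ i ∈ Finset.Ico 1 N, ρ g ^ i with hS'
  have key : (n : R) + E * S' = 0 := by
    have h0 : ∑ u : T, ∑ i ∈ range N, ρ ((u : Y) * g) ^ i = 0 :=
      Finset.sum_eq_zero fun u _ => hall u
    rw [Finset.sum_comm, range_eq_Ico, Finset.sum_eq_sum_Ico_succ_bot (by omega : 0 < N)] at h0
    rw [hS', Finset.mul_sum]
    refine Eq.trans ?_ h0
    congr 1
    · simp [hn]
    · refine Finset.sum_congr rfl fun i hi => ?_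
      obtain ⟨hi1, hi2⟩ := Finset.mem_Ico.mp hi
      rw [hE, Finset.sum_mul]
      symm
      exact Fintype.sum_bijective (c i) (hcbij i hi1 hi2) _ _ fun u => by
        rw [← map_pow, hcpow, map_mul, map_pow]
  -- `n` is invertible
  have hnc : Nat.Coprime n p := by rwa [hn, ← Nat.card_eq_fintype_card]
  obtain ⟨m, hm⟩ := Nat.exists_mul_mod_eq_one_of_coprime hnc hp.out.one_lt
  have hinv : (m : R) * (n : R) = 1 := by
    rw [← Nat.cast_mul, mul_comm m n]
    conv_lhs => rw [← Nat.div_add_mod (n * m) p, Nat.cast_add, Nat.cast_mul, hchar, zero_mul,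
      zero_add, hm.2, Nat.cast_one]
  have hES : E + E * S' = 0 := by
    have h1 : (n : R) * (E + E * S') = 0 := by
      have h2 : E * ((n : R) + E * S') = 0 := by rw [key, mul_zero]
      rwa [mul_add, ← mul_assoc, hEE, (Nat.cast_commute n E).eq.symm, mul_assoc, ← mul_add] at h2
    have := congrArg ((m : R) * ·) h1
    simp only [← mul_assoc, hinv, one_mul, mul_zero] at this
    exact this
  have hEn : E = (n : R) := by
    rw [eq_neg_of_add_eq_zero_left hES, eq_neg_of_add_eq_zero_left key]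
  have h := hEt ⟨t, ht⟩
  rw [hEn] at h
  calc ρ t = ρ t * ((n : R) * (m : R)) := by
        rw [(Nat.cast_commute n (m : R)).eq, hinv, mul_one]
    _ = 1 := by rw [← mul_assoc, h, (Nat.cast_commute n (m : R)).eq, hinv]


end CfsgLib.LocalEvenB.ThompsonFive
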