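import Cfsg.Agent.Lib.LocalEvenB.ThompsonFive.Core
import Cfsg.Agent.Lib.LocalEvenB.ThompsonFive.Regular
import Cfsg.Agent.Lib.Techniques.CriticalDegree

/-!
The terminal configuration: `Q` a normal `p`-subgroup, `M ⧸ Q` an abelian `p'`-group on which an
abelian subgroup `A` of largest order induces fixed-point-free operators on `[M, A]`.
-/

set_option autoImplicit false
set_option maxHeartbeats 1000000

namespace CfsgLib.LocalEvenB.ThompsonFive

open Subgroup Finset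
open scoped commutatorElement

variable {G : Type*} [Group G] [Finite G] {p : ℕ} [hp : Fact p.Prime]

theorem terminal_contradiction (hp5 : 5 ≤ p) (Q M A : Subgroup G) [hQn : Q.Normal] [hMn : M.Normal]
    (hgenG : A ⊔ M = ⊤) (hQ : IsPGroup p Q) (hQM : Q ≤ M) (hMc : ⁅M, M⁆ ≤ Q)
    (hcop : (Q.relIndex M).Coprime p) (hC : M ⊓ centralizer (Q : Set G) ≤ Q)
    (hA : ∀ a ∈ A, ∀ b ∈ A, a * b = b * a) (hAp : IsPGroup p A)
    (hmax : ∀ X : Subgroup G, X ≤ A ⊔ Q → IsMulCommutative X → Nat.card X ≤ Nat.card A)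
    (hne : ¬ ⁅M, A⁆ ≤ Q)
    (hterm : ∀ h ∈ A, h ∉ Q → ∀ m ∈ M, ⁅m, h⁆ ∈ Q → ∀ α ∈ A, ⁅m, α⁆ ∈ Q) : False := by
  classical
  set π := QuotientGroup.mk' Q with hπ
  have hπs : Function.Surjective π := QuotientGroup.mk'_surjective Q
  have hker : ∀ x, π x = 1 ↔ x ∈ Q := fun x => QuotientGroup.eq_one_iff x
  set Mb := M.map π with hMb
  haveI hMbn : Mb.Normal := hMn.map π hπs
  have hMbab : ∀ u ∈ Mb, ∀ v ∈ Mb, u * v = v * u := by
    rintro _ ⟨u, hu, rfl⟩ _ ⟨v, hv, rfl⟩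
    refine commutatorElement_eq_one_iff_mul_comm.mp ?_
    rw [← map_commutatorElement, hker]
    exact hMc (commutator_mem_commutator hu hv)
  letI : CommGroup ↥Mb := { (inferInstance : Group ↥Mb) with
    mul_comm := fun u v => Subtype.ext (hMbab u u.2 v v.2) }
  have hMcard : (Nat.card Mb).Coprime p := by
    rwa [hMb, ← Subgroup.relIndex_ker, hπ, QuotientGroup.ker_mk']
  set Ab := A.map π with hAb
  have hAbab : ∀ u ∈ Ab, ∀ v ∈ Ab, u * v = v * u := by
    rintro _ ⟨u, hu, rfl⟩ _ ⟨v, hv, rfl⟩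
    rw [← map_mul, hA u hu v hv, map_mul]
  -- operators on `M ⧸ Q`
  let θ : (G ⧸ Q) →* AddMonoid.End (Additive ↥Mb) :=
    { toFun := fun y => MonoidHom.toAdditive (MulAut.conjNormal (H := Mb) y).toMonoidHom
      map_one' := by rw [map_one]; rfl
      map_mul' := fun y z => by rw [map_mul]; rfl }
  have hθ : ∀ (y : G ⧸ Q) (v : ↥Mb),
      (((θ y (Additive.ofMul v)).toMul : ↥Mb) : G ⧸ Q) = y * (v : G ⧸ Q) * y⁻¹ := fun _ _ => rfl
  have happ : ∀ (f₁ f₂ : AddMonoid.End (Additive ↥Mb)) (v : Additive ↥Mb),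
      (f₁ * f₂) v = f₁ (f₂ v) := fun _ _ _ => rfl
  have happsum : ∀ (S : Finset ℕ) (F : ℕ → AddMonoid.End (Additive ↥Mb)) (v : Additive ↥Mb),
      (∑ i ∈ S, F i) v = ∑ i ∈ S, F i v := fun S F v =>
    map_sum (AddMonoidHom.mk' (fun Φ : AddMonoid.End (Additive ↥Mb) => Φ v) fun _ _ => rfl) F S
  have hfix : ∀ y ∈ Ab, y ≠ 1 → ∀ v, θ y v = v → ∀ β ∈ Ab, θ β v = v := by
    rintro _ ⟨h, hh, rfl⟩ hy v hv _ ⟨α, hα, rfl⟩
    obtain ⟨⟨_, m, hm, rfl⟩, rfl⟩ : ∃ q : ↥Mb, Additive.ofMul q = v := ⟨v.toMul, rfl⟩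
    have h1 : π h * π m * (π h)⁻¹ = π m :=
      congrArg (fun w : Additive ↥Mb => ((w.toMul : ↥Mb) : G ⧸ Q)) hv
    have h2 := hterm h hh (fun hq => hy ((hker h).mpr hq)) m hm (by
      rw [← hker, map_commutatorElement, commutatorElement_eq_one_iff_mul_comm]
      exact (mul_inv_eq_iff_eq_mul.mp h1).symm) α hα
    rw [← hker, map_commutatorElement, commutatorElement_eq_one_iff_mul_comm] at h2
    refine Additive.toMul.injective (Subtype.ext ?_)
    show π α * π m * (π α)⁻¹ = π m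
    rw [← h2, mul_inv_cancel_right]
  have htors : ∀ v : Additive ↥Mb, (p : ℕ) • v = 0 → v = 0 := by
    intro v hv
    have h1 : addOrderOf v ∣ p := addOrderOf_dvd_of_nsmul_eq_zero hv
    have h2 : addOrderOf v ∣ Nat.card Mb := addOrderOf_dvd_natCard (G := Additive ↥Mb) v
    exact AddMonoid.addOrderOf_eq_one_iff.mp
      (Nat.eq_one_of_dvd_coprimes hMcard h2 h1)
  have hAne : ∃ β ∈ Ab, θ β ≠ 1 := by
    by_contra hall
    push Not at hall
    refine hne ((commutator_le).mpr fun m hm α hα => ?_)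
    rw [← hker, map_commutatorElement, commutatorElement_eq_one_iff_mul_comm]
    have h1 := congrArg (fun w : Additive ↥Mb => ((w.toMul : ↥Mb) : G ⧸ Q))
      (DFunLike.congr_fun (hall _ ⟨α, hα, rfl⟩) (Additive.ofMul ⟨π m, m, hm, rfl⟩))
    exact (mul_inv_eq_iff_eq_mul.mp (show π α * π m * (π α)⁻¹ = π m from h1)).symm
  obtain ⟨β₀, hβ₀, hθβ₀⟩ := hAne
  -- all elements of order `p` of `Ab` lie in one cyclic group
  have hrank : ∀ σ ∈ Ab, σ ≠ 1 → σ ^ p = 1 → ∀ τ ∈ Ab, τ ^ p = 1 → τ ∈ zpowers σ := by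
    intro σ hσ hσ1 hσp τ hτ hτp
    by_contra hτσ
    refine hθβ₀ (AddMonoidHom.ext fun v => ?_)
    set w := θ β₀ v - v with hw
    have hnorm : ∀ y ∈ Ab, y ≠ 1 → y ^ p = 1 → (∑ k ∈ range p, θ y ^ k) w = 0 := by
      intro y hy hy1 hyp
      have h1 : θ y ((∑ k ∈ range p, θ y ^ k) v) = (∑ k ∈ range p, θ y ^ k) v := by
        have := mul_geom_sum (θ y) p
        rw [← map_pow, hyp, map_one, sub_self, sub_mul, one_mul, sub_eq_zero] at this
        exact DFunLike.congr_fun this v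
      have h2 := hfix y hy hy1 _ h1 β₀ hβ₀
      have hc : Commute (θ β₀) (∑ k ∈ range p, θ y ^ k) :=
        Commute.sum_right _ _ _ fun k _ => (((show Commute β₀ y from hAbab β₀ hβ₀ y hy).map θ)).pow_right k
      rw [hw, map_sub, show (∑ k ∈ range p, θ y ^ k) (θ β₀ v) = θ β₀ ((∑ k ∈ range p, θ y ^ k) v)
        from DFunLike.congr_fun hc.eq.symm v, h2, sub_self]
    have hστ : Commute σ τ := hAbab σ hσ τ hτ
    have hne1 : ∀ k i : ℕ, 0 < i → i < p → (σ ^ k * τ) ^ i ≠ 1 := by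
      intro k i hi hip h
      have hy1 : σ ^ k * τ = 1 := by
        have hyp : (σ ^ k * τ) ^ p = 1 := by
          rw [(hστ.pow_left k).mul_pow, ← pow_mul, mul_comm k p, pow_mul, hσp, one_pow, hτp, one_mul]
        have := pow_gcd_eq_one.2 ⟨h, hyp⟩
        rwa [Nat.coprime_comm.mp ((hp.out.coprime_iff_not_dvd).mpr
          (Nat.not_dvd_of_pos_of_lt hi hip)), pow_one] at this
      refine hτσ ?_
      rw [eq_inv_of_mul_eq_one_right hy1]
      exact inv_mem (pow_mem (mem_zpowers σ) k)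
    have hsum : ∀ i ∈ range p, (∑ k ∈ range p, (θ (σ ^ k * τ)) ^ i) w =
        if i = 0 then p • w else 0 := by
      intro i hi
      rw [Finset.mem_range] at hi
      rcases Nat.eq_zero_or_pos i with rfl | hi0
      · simp [nsmul_eq_mul]
      · rw [if_neg (by omega)]
        have hσi1 : σ ^ i ≠ 1 := by
          intro h
          have := pow_gcd_eq_one.2 ⟨h, hσp⟩
          rw [Nat.coprime_comm.mp ((hp.out.coprime_iff_not_dvd).mpr
            (Nat.not_dvd_of_pos_of_lt hi0 hi)), pow_one] at this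
          exact hσ1 this
        have e : (∑ k ∈ range p, (θ (σ ^ k * τ)) ^ i) =
            θ (τ ^ i) * ∑ k ∈ range p, θ (σ ^ i) ^ k := by
          rw [Finset.mul_sum]
          refine Finset.sum_congr rfl fun k _ => ?_
          rw [← map_pow, ← map_pow, ← map_mul, (hστ.pow_left k).mul_pow, ← pow_mul, ← pow_mul,
            mul_comm k i, ((hστ.pow_left (i * k)).pow_right i).eq]
        rw [e, happ, hnorm _ (pow_mem hσ i) hσi1 (by rw [← pow_mul, mul_comm, pow_mul, hσp, one_pow]),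
          map_zero]
    have hzero : ∀ k ∈ range p, (∑ i ∈ range p, θ (σ ^ k * τ) ^ i) w = 0 := by
      intro k _
      refine hnorm _ (mul_mem (pow_mem hσ k) hτ) (fun h => hne1 k 1 one_pos hp.out.one_lt
        (by rw [pow_one, h])) ?_
      rw [(hστ.pow_left k).mul_pow, ← pow_mul, mul_comm k p, pow_mul, hσp, one_pow, hτp, one_mul]
    have hpw : p • w = 0 := by
      have h1 : (∑ k ∈ range p, ∑ i ∈ range p, θ (σ ^ k * τ) ^ i) w = 0 := by
        rw [happsum]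
        exact Finset.sum_eq_zero hzero
      rw [Finset.sum_comm, happsum, Finset.sum_congr rfl hsum,
        Finset.sum_ite_eq' (range p) 0 (fun _ => p • w), if_pos (Finset.mem_range.mpr hp.out.pos)] at h1
      exact h1
    exact sub_eq_zero.mp (htors w hpw)
  -- so `Ab` is cyclic
  have hβ1 : β₀ ≠ 1 := fun h => hθβ₀ (h ▸ map_one θ)
  obtain ⟨a', ha', hamax⟩ := Set.exists_max_image (Ab : Set (G ⧸ Q)) orderOf (Set.toFinite _)
    ⟨1, one_mem _⟩
  have hAbp : IsPGroup p Ab := hAp.map π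
  have hord : ∀ y ∈ Ab, ∃ k, orderOf y = p ^ k := fun y hy => by
    obtain ⟨k, hk⟩ := hAbp ⟨y, hy⟩
    obtain ⟨j, -, hj⟩ := (Nat.dvd_prime_pow hp.out).mp
      (orderOf_dvd_of_pow_eq_one (congrArg Subtype.val hk : y ^ p ^ k = 1))
    exact ⟨j, hj⟩
  obtain ⟨s, hs⟩ := hord a' ha'
  have hs1 : 1 ≤ s := by
    by_contra h
    push Not at h
    have := hamax β₀ hβ₀
    rw [hs, show s = 0 by omega, pow_zero] at this
    exact hβ1 (orderOf_eq_one_iff.mp (le_antisymm this (orderOf_pos β₀)))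
  set z := a' ^ p ^ (s - 1) with hz
  have hzA : z ∈ Ab := pow_mem ha' _
  have hzp : z ^ p = 1 := by
    rw [hz, ← pow_mul, ← pow_succ, Nat.sub_add_cancel hs1, ← hs, pow_orderOf_eq_one]
  have hz1 : z ≠ 1 := fun h => by
    have h2 := orderOf_dvd_of_pow_eq_one (hz ▸ h)
    rw [hs, Nat.pow_dvd_pow_iff_le_right hp.out.one_lt] at h2
    omega
  have hcyc : ∀ y ∈ Ab, y ∈ zpowers a' := by
    by_contra hcon
    push Not at hcon
    obtain ⟨y, ⟨hy, hya⟩, hymin⟩ := Set.exists_min_image {y | y ∈ Ab ∧ y ∉ zpowers a'} orderOf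
      (Set.toFinite _) hcon
    have hy0 : y ≠ 1 := fun h => hya (h ▸ one_mem _)
    obtain ⟨k, hk⟩ := hord y hy
    have hk1 : 1 ≤ k := by
      by_contra h
      rw [show k = 0 by omega, pow_zero] at hk
      exact hy0 (orderOf_eq_one_iff.mp hk)
    have hyp : y ^ p ∈ zpowers a' := by
      by_contra h
      have h2 := hymin (y ^ p) ⟨pow_mem hy p, h⟩
      rw [orderOf_pow, hk, Nat.gcd_eq_right (dvd_pow_self p (by omega))] at h2
      have h3 : p ^ k / p < p ^ k := Nat.div_lt_self (pow_pos hp.out.pos _) hp.out.one_lt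
      omega
    obtain ⟨j, hj⟩ := Subgroup.mem_zpowers_iff.mp hyp
    have h1 : a' ^ (j * (p ^ (s - 1) : ℕ)) = (1 : G ⧸ Q) := by
      rw [zpow_mul, hj, zpow_natCast, ← pow_mul, ← pow_succ', Nat.sub_add_cancel hs1]
      refine orderOf_dvd_iff_pow_eq_one.mp ?_
      rw [hk]
      refine pow_dvd_pow p ((Nat.pow_le_pow_iff_right hp.out.one_lt).mp ?_)
      rw [← hk, ← hs]; exact hamax y hy
    obtain ⟨i, rfl⟩ : (p : ℤ) ∣ j := by
      have h2 := orderOf_dvd_iff_zpow_eq_one.mpr h1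
      rw [hs, show p ^ s = p * p ^ (s - 1) by rw [← pow_succ', Nat.sub_add_cancel hs1], Nat.cast_mul] at h2
      exact (mul_dvd_mul_iff_right (by exact_mod_cast (pow_pos hp.out.pos (s - 1)).ne')).mp h2
    have hc : Commute y (a' ^ (-i)) := hAbab y hy _ (zpow_mem ha' _)
    have hy' : (y * a' ^ (-i)) ^ p = 1 := by
      rw [hc.mul_pow, ← hj, ← zpow_natCast (a' ^ (-i)), ← zpow_mul, ← zpow_add,
        show (p : ℤ) * i + -i * p = 0 by ring, zpow_zero]
    have h3 : y * a' ^ (-i) ∈ zpowers z :=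
      hrank z hzA hz1 hzp _ (mul_mem hy (zpow_mem ha' _)) hy'
    refine hya ?_
    have h4 : y * a' ^ (-i) ∈ zpowers a' :=
      (zpowers_le.mpr (pow_mem (mem_zpowers a') _)) h3
    have h5 := mul_mem h4 (zpow_mem (mem_zpowers a') i)
    rwa [mul_assoc, ← zpow_add, neg_add_cancel, zpow_zero, mul_one] at h5
  -- the subgroup `T = [M ⧸ Q, z]`
  let f : ↥Mb →* ↥Mb :=
    MonoidHom.mk' (fun v => MulAut.conjNormal (H := Mb) z v * v⁻¹) fun u v => by
      rw [map_mul, mul_inv]; exact mul_mul_mul_comm _ _ _ _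
  set T := f.range.map Mb.subtype with hT
  have hfc : ∀ v, ((f v : ↥Mb) : G ⧸ Q) = z * (v : G ⧸ Q) * z⁻¹ * (v : G ⧸ Q)⁻¹ := fun v => rfl
  have hTn : T.Normal := by
    have key : ∀ y : G ⧸ Q, y ∈ Ab ⊔ Mb → ∀ t ∈ T, y * t * y⁻¹ ∈ T := by
      intro y hy
      have : Ab ⊔ Mb ≤ normalizer (T : Set (G ⧸ Q)) := by
        refine sup_le ?_ ?_
        · rw [le_normalizer_iff]
          rintro β hβ _ ⟨_, ⟨v, rfl⟩, rfl⟩
          refine ⟨f ⟨β * v * β⁻¹, hMbn.conj_mem _ v.2 β⟩, ⟨_, rfl⟩, ?_⟩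
          show ((f _ : ↥Mb) : G ⧸ Q) = β * ((f v : ↥Mb) : G ⧸ Q) * β⁻¹
          rw [hfc, hfc]
          have hbz : β * z = z * β := hAbab β hβ z hzA
          have hbz' : β⁻¹ * z = z * β⁻¹ := hAbab _ (inv_mem hβ) z hzA
          calc z * (β * (v : G ⧸ Q) * β⁻¹) * z⁻¹ * (β * (v : G ⧸ Q) * β⁻¹)⁻¹
              = (z * β) * (v : G ⧸ Q) * (z * β)⁻¹ * β * (v : G ⧸ Q)⁻¹ * β⁻¹ := by group
            _ = β * (z * (v : G ⧸ Q) * z⁻¹ * (v : G ⧸ Q)⁻¹) * β⁻¹ := by rw [← hbz]; group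
        · rw [le_normalizer_iff]
          rintro m hm _ ⟨w, hw, rfl⟩
          refine ⟨w, hw, ?_⟩
          show (w : G ⧸ Q) = m * w * m⁻¹
          rw [hMbab m hm w w.2, mul_inv_cancel_right]
      exact fun t ht => (mem_normalizer_iff.mp (this hy) t).mp ht
    refine ⟨fun t ht y => key y ?_ t ht⟩
    rw [hAb, hMb, ← Subgroup.map_sup, hgenG, Subgroup.map_top_of_surjective π hπs]
    exact mem_top y
  have hTfix : ∀ t ∈ T, z * t * z⁻¹ = t → t = 1 := by
    rintro _ ⟨_, ⟨v, rfl⟩, rfl⟩ hzt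
    set V0 := Additive.ofMul v
    set W0 := θ z V0 - V0 with hW0
    have e : ((W0.toMul : ↥Mb) : G ⧸ Q) = ((f v : ↥Mb) : G ⧸ Q) := by
      rw [hW0, toMul_sub, div_eq_mul_inv]
      rfl
    have hzW : θ z W0 = W0 := Additive.toMul.injective (Subtype.ext (by
      show z * ((W0.toMul : ↥Mb) : G ⧸ Q) * z⁻¹ = _
      rw [e]
      exact hzt))
    have hpow : ∀ i : ℕ, (θ z ^ i) V0 = V0 + i • W0 := by
      intro i
      induction i with
      | zero => rw [pow_zero, zero_smul, add_zero]; rfl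
      | succ i ih =>
        rw [pow_succ', happ, ih, map_add, map_nsmul, hzW, succ_nsmul, hW0]
        abel
    have h1 := hpow p
    rw [← map_pow, hzp, map_one] at h1
    have h2 : W0 = 0 := htors W0 (left_eq_add.mp h1)
    show ((f v : ↥Mb) : G ⧸ Q) = 1
    rw [← e, h2]
    rfl
  have hTne : ∃ t ∈ T, t ≠ 1 := by
    by_contra hall
    push Not at hall
    refine hθβ₀ (AddMonoidHom.ext fun v => hfix z hzA hz1 v ?_ β₀ hβ₀)
    refine Additive.toMul.injective (Subtype.ext ?_)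
    exact mul_inv_eq_one.mp (hall _ ⟨_, ⟨v.toMul, rfl⟩, rfl⟩)
  set M0 := T.comap π with hM0
  haveI : M0.Normal := hTn.comap π
  have hM0M : M0 ≤ M := by
    intro x hx
    obtain ⟨m, hm, hmx⟩ : π x ∈ Mb := Subgroup.map_subtype_le _ hx
    have : m⁻¹ * x ∈ Q := (hker _).mp (by rw [map_mul, map_inv, hmx, inv_mul_cancel])
    simpa using mul_mem hm (hQM this)
  -- elements of order prime to `p`
  set Ts : Set G := {t | t ∈ M0 ∧ (orderOf t).Coprime p} with hTs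
  have hTsc : ∀ t ∈ Ts, ∀ y : G, y * t * y⁻¹ ∈ Ts := fun t ht y =>
    ⟨Subgroup.Normal.conj_mem inferInstance _ ht.1 y, by
      rw [← MulAut.conj_apply, MulEquiv.orderOf_eq]; exact ht.2⟩
  have hTcard : (Nat.card T).Coprime p :=
    hMcard.coprime_dvd_left (Subgroup.card_dvd_of_le (Subgroup.map_subtype_le _))
  have hTlift : ∀ t ∈ T, ∃ x ∈ Ts, ∃ r : ℕ, r.Coprime (Nat.card T) ∧ π x = t ^ r := by
    intro t ht
    obtain ⟨x, rfl⟩ := hπs t
    set r := p ^ (orderOf x).factorization p with hr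
    refine ⟨x ^ r, ⟨pow_mem (show x ∈ M0 from ht) _, ?_⟩, r,
      (hTcard.pow_right _).symm, by rw [map_pow]⟩
    rw [orderOf_pow_of_dvd (pow_ne_zero _ hp.out.ne_zero) (Nat.ordProj_dvd _ p)]
    exact (Nat.coprime_ordCompl hp.out (orderOf_pos x).ne').symm
  have hTsQ : ∃ t ∈ Ts, t ∉ Q := by
    obtain ⟨t, ht, ht1⟩ := hTne
    obtain ⟨x, hx, r, hr, hxr⟩ := hTlift t ht
    refine ⟨x, hx, fun hxQ => ht1 ?_⟩
    rw [(hker x).mpr hxQ] at hxr
    have := pow_gcd_eq_one.2 ⟨hxr.symm, (congrArg Subtype.val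
      (pow_card_eq_one' (x := (⟨t, ht⟩ : T))) : t ^ Nat.card T = 1)⟩
    rwa [hr, pow_one] at this
  -- a minimal layer
  set Cand : Set (Subgroup G) := {X | X ≤ Q ∧ X.Normal ∧ ∃ t ∈ Ts, ∃ b ∈ X, t * b ≠ b * t} with hCand
  have hQc : Q ∈ Cand := by
    refine ⟨le_rfl, hQn, ?_⟩
    by_contra hall
    push Not at hall
    obtain ⟨t, ht, htQ⟩ := hTsQ
    exact htQ (hC ⟨hM0M ht.1, mem_centralizer_iff.mpr fun q hq => (hall t ht q hq).symm⟩)
  obtain ⟨B, ⟨hBQ, hBn, t₀, ht₀, b₀, hb₀, htb₀⟩, hBmin⟩ :=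
    Set.Finite.exists_minimal (Set.toFinite Cand) ⟨Q, hQc⟩
  haveI := hBn
  set B₁ := B ⊓ centralizer Ts with hB₁
  have hB₁n : B₁.Normal := by
    refine ⟨fun x hx y => ⟨hBn.conj_mem _ hx.1 y, mem_centralizer_iff.mpr fun t ht => ?_⟩⟩
    have h1 : (y⁻¹ * t * y) * x = x * (y⁻¹ * t * y) := mem_centralizer_iff.mp hx.2 _ (by
      simpa using hTsc t ht y⁻¹)
    calc t * (y * x * y⁻¹) = y * ((y⁻¹ * t * y) * x) * y⁻¹ := by group
      _ = y * x * y⁻¹ * t := by rw [h1]; group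
  haveI := hB₁n
  have hproper : ∀ X : Subgroup G, X.Normal → X ≤ B → X ≠ B → X ≤ B₁ := by
    intro X hXn hXB hXne x hx
    refine ⟨hXB hx, mem_centralizer_iff.mpr fun t ht => ?_⟩
    by_contra hcon
    exact hXne (le_antisymm hXB (hBmin ⟨hXB.trans hBQ, hXn, t, ht, x, hx, hcon⟩ hXB))
  have hB₁ne : B₁ ≠ B := fun h => htb₀ (mem_centralizer_iff.mp (h.ge hb₀).2 _ ht₀)
  have hBp : IsPGroup p B := hQ.to_le hBQ
  have hBbot : B ≠ ⊥ := by
    intro h
    rw [h, Subgroup.mem_bot] at hb₀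
    exact htb₀ (by rw [hb₀, mul_one, one_mul])
  have hBQc : ⁅B, Q⁆ ≤ B₁ :=
    hproper _ inferInstance (commutator_le_left _ _)
      (CfsgLib.Techniques.commutator_lt_of_isPGroup hQ hBQ hBbot hBn).ne
  have hBB : ⁅B, B⁆ ≤ B₁ := (commutator_mono le_rfl hBQ).trans hBQc
  have hcopfix : ∀ t ∈ Ts, ∀ b ∈ B, ⁅t, b⁆ ∈ B₁ → t * b = b * t := by
    intro t ht b hb hc
    have hcm : t * ⁅t, b⁆ = ⁅t, b⁆ * t := mem_centralizer_iff.mp hc.2 t ht
    have hpow : ∀ n : ℕ, t ^ n * b * (t ^ n)⁻¹ = ⁅t, b⁆ ^ n * b := by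
      intro n
      induction n with
      | zero => simp
      | succ n ih =>
        calc t ^ (n + 1) * b * (t ^ (n + 1))⁻¹ = t * (t ^ n * b * (t ^ n)⁻¹) * t⁻¹ := by
              rw [pow_succ']; group
          _ = ⁅t, b⁆ ^ n * (t * b * t⁻¹) := by
              rw [ih, ← mul_assoc, (Commute.pow_right hcm n).eq]; group
          _ = ⁅t, b⁆ ^ (n + 1) * b := by
              rw [pow_succ, commutatorElement_def]; group
    have h1 := hpow (orderOf t)
    rw [pow_orderOf_eq_one, inv_one, one_mul, mul_one, right_eq_mul] at h1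
    obtain ⟨k, hk⟩ := hBp ⟨_, hc.1⟩
    have h2 := pow_gcd_eq_one.2 ⟨h1, (congrArg Subtype.val hk : ⁅t, b⁆ ^ p ^ k = 1)⟩
    rw [ht.2.pow_right k, pow_one] at h2
    exact commutatorElement_eq_one_iff_mul_comm.mp h2
  have hcen : ⁅B, B₁⁆ = ⊥ := by
    rw [commutator_eq_bot_iff_le_centralizer]
    by_contra hcon
    have hle : B ⊓ centralizer (B₁ : Set G) ≤ B₁ :=
      hproper _ inferInstance inf_le_left fun h => hcon (h.ge.trans inf_le_right)
    refine htb₀ (hcopfix t₀ ht₀ b₀ hb₀ (hle (Subgroup.mem_inf.mpr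
      ⟨?_, mem_centralizer_iff.mpr fun z hz => ?_⟩)))
    · rw [commutatorElement_def]
      exact mul_mem (hBn.conj_mem _ hb₀ t₀) (inv_mem hb₀)
    · have hz1 : b₀⁻¹ * z * b₀ ∈ B₁ := by simpa using hB₁n.conj_mem z hz b₀⁻¹
      have e1 : t₀ * (b₀⁻¹ * z * b₀) = (b₀⁻¹ * z * b₀) * t₀ := mem_centralizer_iff.mp hz1.2 t₀ ht₀
      have e2 : t₀ * z = z * t₀ := mem_centralizer_iff.mp hz.2 t₀ ht₀
      calc z * ⁅t₀, b₀⁆ = z * (t₀ * b₀ * t₀⁻¹ * b₀⁻¹) := by rw [commutatorElement_def]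
        _ = (z * t₀) * b₀ * t₀⁻¹ * b₀⁻¹ := by group
        _ = t₀ * z * b₀ * t₀⁻¹ * b₀⁻¹ := by rw [← e2]
        _ = t₀ * b₀ * ((b₀⁻¹ * z * b₀) * t₀⁻¹) * b₀⁻¹ := by group
        _ = t₀ * b₀ * (t₀⁻¹ * (b₀⁻¹ * z * b₀)) * b₀⁻¹ := by
            rw [(Commute.inv_left (show Commute t₀ (b₀⁻¹ * z * b₀) from e1)).eq]
        _ = ⁅t₀, b₀⁆ * z := by rw [commutatorElement_def]; group
  have hpow : ∀ b ∈ B, b ^ p ∈ B₁ := by
    set P := Subgroup.closure ((fun b => b ^ p) '' (B : Set G)) ⊔ B₁ with hP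
    have hPn : P.Normal := by
      haveI : (Subgroup.closure ((fun b => b ^ p) '' (B : Set G))).Normal := by
        refine ⟨fun x hx y => ?_⟩
        have := mem_map_of_mem (MulAut.conj y).toMonoidHom hx
        rw [MonoidHom.map_closure] at this
        refine Subgroup.closure_mono ?_ this
        rintro _ ⟨_, ⟨b, hb, rfl⟩, rfl⟩
        exact ⟨y * b * y⁻¹, hBn.conj_mem _ hb y, conj_pow⟩
      rw [hP]; infer_instance
    have hPB : P ≤ B := sup_le ((Subgroup.closure_le _).mpr (by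
      rintro _ ⟨b, hb, rfl⟩; exact pow_mem hb p)) inf_le_left
    have hPne : P ≠ B := by
      intro hPeq
      set No := B₁.subgroupOf B
      haveI : No.Normal := inferInstance
      have hcomm : ∀ u v : ↥B ⧸ No, u * v = v * u := fun u v =>
        QuotientGroup.induction_on u fun x => QuotientGroup.induction_on v fun y => by
          rw [← QuotientGroup.mk_mul, ← QuotientGroup.mk_mul]
          refine QuotientGroup.eq.mpr (mem_subgroupOf.mpr ?_)
          have h : ⁅(y : G)⁻¹, (x : G)⁻¹⁆ ∈ B₁ :=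
            hBB (commutator_mem_commutator (inv_mem y.2) (inv_mem x.2))
          rwa [show (((x * y)⁻¹ * (y * x) : ↥B) : G) = ⁅(y : G)⁻¹, (x : G)⁻¹⁆ by
            push_cast; rw [commutatorElement_def]; group]
      letI : CommGroup (↥B ⧸ No) := { (inferInstance : Group (↥B ⧸ No)) with mul_comm := hcomm }
      set pm := (powMonoidHom p : (↥B ⧸ No) →* (↥B ⧸ No))
      have hsurj : Function.Surjective pm := by
        have hsub : P ≤ ((pm.range).comap (QuotientGroup.mk' No)).map B.subtype := by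
          refine sup_le ((Subgroup.closure_le _).mpr ?_) ?_
          · rintro _ ⟨b, hb, rfl⟩
            exact ⟨⟨b, hb⟩ ^ p, ⟨QuotientGroup.mk ⟨b, hb⟩, rfl⟩, rfl⟩
          · intro b hb
            exact ⟨⟨b, hb.1⟩, ⟨1, (map_one pm).trans
              ((QuotientGroup.eq_one_iff _).mpr (mem_subgroupOf.mpr hb)).symm⟩, rfl⟩
        intro u
        obtain ⟨⟨b, hb⟩, rfl⟩ := QuotientGroup.mk_surjective u
        obtain ⟨c, hc, hcb⟩ := hsub (hPeq.ge hb)
        obtain rfl : c = ⟨b, hb⟩ := Subtype.ext hcb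
        exact hc
      have hinj : Function.Injective pm := Finite.injective_iff_surjective.mpr hsurj
      have hbot : ∀ u : ↥B ⧸ No, u = 1 := by
        intro u
        obtain ⟨k, hk⟩ := (hBp.to_quotient No) u
        have : ∀ k : ℕ, u ^ p ^ k = 1 → u = 1 := by
          intro k
          induction k with
          | zero => simp
          | succ k ih =>
            intro h
            rw [pow_succ, pow_mul] at h
            exact ih (hinj (h.trans (map_one pm).symm))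
        exact this k hk
      exact hB₁ne (le_antisymm inf_le_left fun b hb =>
        mem_subgroupOf.mp ((QuotientGroup.eq_one_iff (⟨b, hb⟩ : ↥B)).mp (hbot _)))
    exact fun b hb => hproper P hPn hPB hPne (mem_sup_left (Subgroup.subset_closure ⟨b, hb, rfl⟩))
  obtain ⟨L, hLB, hLB₁⟩ : ∃ L : Layer G p, L.B = B ∧ L.B₁ = B₁ :=
    ⟨⟨B, B₁, hBn, hB₁n, hcen, hBB, hpow⟩, rfl, rfl⟩
  have hQ1 : ∀ q ∈ Q, L.act q = 1 := fun q hq =>
    L.act_eq_one fun b hb => hLB₁ ▸ hBQc (commutator_mem_commutator (hLB ▸ hb) hq)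
  have hfaith : L.act t₀ ≠ 1 := by
    intro h
    refine htb₀ (hcopfix t₀ ht₀ b₀ hb₀ ?_)
    have h1 : L.act t₀ (L.cl ⟨b₀, hLB.symm ▸ hb₀⟩) = L.cl ⟨b₀, hLB.symm ▸ hb₀⟩ := by rw [h]; rfl
    rw [L.act_cl, ← sub_eq_zero, sub_eq_add_neg, ← L.cl_inv, ← L.cl_mul, L.cl_eq_zero, hLB₁] at h1
    exact h1
  obtain ⟨a, haA, haa⟩ := ha'
  obtain ⟨ρ, hρ⟩ : ∃ ρ : (G ⧸ Q) →* AddMonoid.End L.V, ∀ x, ρ (π x) = L.act x :=
    ⟨QuotientGroup.lift Q L.act (fun q hq => hQ1 q hq), fun x => rfl⟩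
  haveI : IsMulCommutative ↥T := ⟨⟨fun u v => Subtype.ext
    (hMbab u (Subgroup.map_subtype_le _ u.2) v (Subgroup.map_subtype_le _ v.2))⟩⟩
  by_cases hall : ∀ x0 : L.V, ((L.act a - 1) ^ (p ^ s - 1) : AddMonoid.End L.V) x0 = 0
  · refine hfaith ?_
    rw [← hρ]
    refine hom_eq_one_of_norm (p := p) ρ T hTcard (natCast_end_eq_zero L.nsmul_V) a'
      ((Subgroup.normalizer_eq_top (H := T)).ge (Subgroup.mem_top a')) (p ^ s)
      (Nat.one_lt_pow (by omega) hp.out.one_lt) ?_ ?_ ht₀.1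
    · intro i hi hiN t ht hit
      refine hTfix t ht ?_
      have hai : a' ^ i ≠ 1 := fun h => by
        have := Nat.le_of_dvd hi (orderOf_dvd_of_pow_eq_one h)
        omega
      have htM : t ∈ Mb := Subgroup.map_subtype_le _ ht
      have h1 := hfix _ (pow_mem (⟨a, haA, haa⟩ : a' ∈ Ab) i) hai (Additive.ofMul ⟨t, htM⟩)
        (Additive.toMul.injective (Subtype.ext hit)) z hzA
      exact congrArg (fun w : Additive ↥Mb => ((w.toMul : ↥Mb) : G ⧸ Q)) h1
    · rw [← haa, hρ, ← sub_one_pow_pred_eq (natCast_end_eq_zero L.nsmul_V)]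
      exact AddMonoidHom.ext hall
  · push Not at hall
    obtain ⟨x0, hx0⟩ := hall
    refine core_contradiction L hp5 Q A hA (hLB ▸ hBQ) (hLB ▸ hLB₁ ▸ hBQc) hmax a haA s hs1 (fun α hα => ?_) ?_ x0 hx0
    · obtain ⟨j, hj⟩ := Subgroup.mem_zpowers_iff.mp (hcyc (π α) ⟨α, hα, rfl⟩)
      have hN0 : (0 : ℤ) < (p ^ s : ℕ) := by exact_mod_cast pow_pos hp.out.pos s
      obtain ⟨i, hi⟩ : ∃ i : ℕ, (i : ℤ) = j % (p ^ s : ℕ) :=
        ⟨_, Int.toNat_of_nonneg (Int.emod_nonneg _ hN0.ne')⟩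
      refine ⟨i, ?_, (a ^ i)⁻¹ * α, Subgroup.mem_inf.mpr ⟨mul_mem (inv_mem (pow_mem haA i)) hα, (hker _).mp ?_⟩,
        (mul_inv_cancel_left _ _).symm⟩
      · have := Int.emod_lt_of_pos j hN0
        omega
      · rw [map_mul, map_inv, map_pow, haa, ← hj, ← zpow_natCast, hi, ← hs, zpow_mod_orderOf,
          inv_mul_cancel]
    · rw [← hker, map_pow, haa, ← hs, pow_orderOf_eq_one]

end CfsgLib.LocalEvenB.ThompsonFive
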